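import Cfsg.Agent.Components.Control.Local

/-!
Well-placed subgroups and the translation to the predicates of the statements.
-/

set_option linter.style.haveILetI false
set_option linter.unusedSectionVars false

namespace Cfsg.Lib.Control

open Subgroup

variable {G : Type*} [Group G] [Finite G] {p : ℕ} [Fact p.Prime]

/-- every subgroup of `S` has a conjugate `U ≤ S` with `N_S(U)` Sylow in `N(U)` -/
theorem exists_good (S : Sylow p G) {T : Subgroup G} (hT : T ≤ (S : Subgroup G)) :
    ∃ g : G, T.map (MulAut.conj g).toMonoidHom ≤ (S : Subgroup G) ∧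
      Good p (S : Subgroup G) (T.map (MulAut.conj g).toMonoidHom) := by
  obtain ⟨P, hTP, hPN, hPp, hPnd⟩ :=
    Cfsg.Lib.ZJ.exists_sylow_normalizer T T (S.2.to_le hT) le_normalizer
  obtain ⟨R, hR⟩ := hPp.exists_le_sylow
  obtain ⟨g, hg⟩ := MulAction.exists_smul_eq G R S
  have hPS : P.map (MulAut.conj g).toMonoidHom ≤ (S : Subgroup G) := by
    rw [← hg, Cfsg.Lib.Transfer.sylow_smul_coe]; exact map_mono hR
  refine ⟨g, (map_mono hTP).trans hPS, ?_⟩
  set N' := normalizer ((T.map (MulAut.conj g).toMonoidHom : Subgroup G) : Set G)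
  have hN' : N' = (normalizer (T : Set G)).map (MulAut.conj g).toMonoidHom :=
    Cfsg.Lib.Coprime.normalizer_conjMap g T
  have hle : P.map (MulAut.conj g).toMonoidHom ≤ (S : Subgroup G) ⊓ N' :=
    le_inf hPS (hN' ▸ map_mono hPN)
  intro h
  apply hPnd
  rw [← relIndex_map_map_of_injective P (normalizer (T : Set G))
    (f := (MulAut.conj g).toMonoidHom) (MulAut.conj g).injective]
  rw [← hN']
  exact h.trans (Subgroup.relIndex_dvd_of_le_left N' hle)

/-- a `p`-group containing a Sylow subgroup equals it -/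
theorem eq_of_nd {R R' N : Subgroup G} (hRR : R ≤ R') (hR'N : R' ≤ N) (hp : IsPGroup p R')
    (hnd : ¬ p ∣ R.relIndex N) : R = R' := by
  refine le_antisymm hRR (relIndex_eq_one.mp ?_)
  obtain ⟨b, hb⟩ := IsPGroup.iff_card.mp hp
  have h1 : R.relIndex R' ∣ p ^ b := hb ▸ (index_dvd_card (R.subgroupOf R'))
  obtain ⟨i, -, hi⟩ := (Nat.dvd_prime_pow Fact.out).mp h1
  rcases Nat.eq_zero_or_pos i with rfl | hi0
  · rw [hi, pow_zero]
  · exact absurd ((dvd_pow_self p hi0.ne').trans (hi ▸ (⟨_, (relIndex_mul_relIndex R R' N hRR hR'N).symm⟩ :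
      R.relIndex R' ∣ R.relIndex N))) hnd

section tower

variable (W : Subgroup G → Subgroup G) (hW : Cfsg.IsConjugacyFunctor p W) (S : Sylow p G)
include hW

theorem tower_le {T : Subgroup G} (hT : T ≤ (S : Subgroup G)) :
    ∀ i, Cfsg.functorTower W (S : Subgroup G) T i ≤ (S : Subgroup G)
  | 0 => hT
  | _ + 1 => (hW _ (S.2.to_le inf_le_left)).1.trans inf_le_left

theorem tower_normalizer_mono {T : Subgroup G} (i : ℕ) :
    (S : Subgroup G) ⊓ normalizer (Cfsg.functorTower W (S : Subgroup G) T i : Set G) ≤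
      (S : Subgroup G) ⊓ normalizer (Cfsg.functorTower W (S : Subgroup G) T (i + 1) : Set G) := by
  intro u hu
  refine ⟨hu.1, ?_⟩
  set N := (S : Subgroup G) ⊓ normalizer (Cfsg.functorTower W (S : Subgroup G) T i : Set G)
  show u ∈ normalizer ((W N : Subgroup G) : Set G)
  rw [← Cfsg.Lib.Transfer.map_conj_eq_self_iff, ← (hW N (S.2.to_le inf_le_left)).2.2 u,
    Cfsg.Lib.Transfer.map_conj_eq_self_iff.mpr (le_normalizer hu)]

theorem exists_wellPlaced {T : Subgroup G} (hT : T ≤ (S : Subgroup G)) :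
    ∃ g : G, Cfsg.IsWellPlaced p W (S : Subgroup G) (T.map (MulAut.conj g).toMonoidHom) := by
  suffices key : ∀ n : ℕ, ∃ g : G, T.map (MulAut.conj g).toMonoidHom ≤ (S : Subgroup G) ∧
      ∀ i ≤ n, Good p (S : Subgroup G)
        (Cfsg.functorTower W (S : Subgroup G) (T.map (MulAut.conj g).toMonoidHom) i) by
    obtain ⟨g, hg, hgood⟩ := key (Nat.card (S : Subgroup G) + 2)
    refine ⟨g, hg, fun i => ?_⟩
    set T' := T.map (MulAut.conj g).toMonoidHom
    set U := Cfsg.functorTower W (S : Subgroup G) T'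
    set N := fun i => (S : Subgroup G) ⊓ normalizer (U i : Set G)
    obtain ⟨j, hj, hjeq⟩ : ∃ j ≤ Nat.card (S : Subgroup G), N (j + 1) = N j := by
      by_contra hne
      push Not at hne
      have : ∀ j ≤ Nat.card (S : Subgroup G) + 1, j + 1 ≤ Nat.card (N j) := by
        intro j hj
        induction j with
        | zero => exact Nat.card_pos
        | succ j ihj =>
          have hle : N j ≤ N (j + 1) := tower_normalizer_mono W hW S j
          have hlt : Nat.card (N j) < Nat.card (N (j + 1)) :=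
            lt_of_le_of_ne (card_le_of_le hle) fun h => hne j (by omega)
              (eq_of_le_of_card_ge hle h.ge).symm
          have := ihj (by omega)
          omega
      have h1 := this (Nat.card (S : Subgroup G) + 1) le_rfl
      have h2 : Nat.card (N (Nat.card (S : Subgroup G) + 1)) ≤ Nat.card (S : Subgroup G) :=
        card_le_of_le inf_le_left
      omega
    have hconst : ∀ m, U (j + 1 + m) = U (j + 1) := by
      intro m
      induction m with
      | zero => rfl
      | succ m ihm =>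
        show W ((S : Subgroup G) ⊓ normalizer (U (j + 1 + m) : Set G)) = _
        rw [ihm]
        exact congrArg W hjeq
    by_cases hi : i ≤ Nat.card (S : Subgroup G) + 2
    · exact hgood i hi
    · have := hconst (i - (j + 1))
      rw [show j + 1 + (i - (j + 1)) = i by omega] at this
      show Good p (S : Subgroup G) (U i)
      rw [this]
      exact hgood _ (by omega)
  intro n
  induction n with
  | zero =>
    obtain ⟨g, hg, hgood⟩ := exists_good S hT
    exact ⟨g, hg, fun i hi => by rw [Nat.le_zero.mp hi]; exact hgood⟩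
  | succ n ih =>
    obtain ⟨g, hg, hgood⟩ := ih
    set T₀ := T.map (MulAut.conj g).toMonoidHom
    set U := Cfsg.functorTower W (S : Subgroup G) T₀
    obtain ⟨a, haS, ha⟩ := exists_good S (tower_le W hW S hg (n + 1))
    obtain ⟨h, hh, hhN⟩ := exists_conj_normalizer S rfl ha
    have hT₀ : ∀ i ≤ n + 1, (S : Subgroup G) ⊓ normalizer (U i : Set G) ≤
        (S : Subgroup G) ⊓ normalizer (U (n + 1) : Set G) := by
      intro i hi
      induction hd : n + 1 - i generalizing i with
      | zero => rw [show i = n + 1 by omega]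
      | succ d ihd => exact (tower_normalizer_mono W hW S i).trans (ihd (i + 1) (by omega) (by omega))
    have hT₀' : T₀.map (MulAut.conj h).toMonoidHom ≤ (S : Subgroup G) := by
      refine (map_mono (le_inf hg le_normalizer)).trans (((map_mono (hT₀ 0 (by omega))).trans hhN).trans ?_)
      exact inf_le_left
    have hTeq : T.map (MulAut.conj (h * g)).toMonoidHom = T₀.map (MulAut.conj h).toMonoidHom := by
      rw [map_map]; congr 1; ext x; simp [mul_assoc]
    refine ⟨h * g, hTeq ▸ hT₀', ?_⟩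
    rw [hTeq]
    set U' := Cfsg.functorTower W (S : Subgroup G) (T₀.map (MulAut.conj h).toMonoidHom)
    have hU' : ∀ i ≤ n + 1, U' i = (U i).map (MulAut.conj h).toMonoidHom ∧
        (i ≤ n → (S : Subgroup G) ⊓ normalizer (U' i : Set G) =
          ((S : Subgroup G) ⊓ normalizer (U i : Set G)).map (MulAut.conj h).toMonoidHom ∧
          Good p (S : Subgroup G) (U' i)) := by
      intro i
      induction i with
      | zero =>
        intro _
        refine ⟨rfl, fun hin => ?_⟩
        exact step W hW S (hT₀ 0 (by omega)) hhN (hgood 0 (by omega)) rfl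
      | succ i ihi =>
        intro hi
        obtain ⟨-, h2⟩ := ihi (by omega)
        obtain ⟨hN, -⟩ := h2 (by omega)
        have he : U' (i + 1) = (U (i + 1)).map (MulAut.conj h).toMonoidHom := by
          show W _ = _
          rw [hN]
          exact (hW _ (S.2.to_le inf_le_left)).2.2 h
        exact ⟨he, fun hin => step W hW S (hT₀ _ hi) hhN (hgood _ hin) he⟩
    intro i hi
    rcases Nat.lt_or_ge i (n + 1) with hlt | hge
    · exact ((hU' i hi).2 (by omega)).2
    · obtain rfl : i = n + 1 := by omega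
      rw [(hU' _ le_rfl).1, hh]
      exact ha
where
  step (W : Subgroup G → Subgroup G) (hW : Cfsg.IsConjugacyFunctor p W) (S : Sylow p G)
      {U V U' V' : Subgroup G} {h : G}
      (hle : (S : Subgroup G) ⊓ normalizer (U : Set G) ≤ (S : Subgroup G) ⊓ normalizer (V : Set G))
      (hhN : ((S : Subgroup G) ⊓ normalizer (V : Set G)).map (MulAut.conj h).toMonoidHom ≤
        (S : Subgroup G) ⊓ normalizer (V' : Set G))
      (hg : Good p (S : Subgroup G) U) (he : U' = U.map (MulAut.conj h).toMonoidHom) :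
      (S : Subgroup G) ⊓ normalizer (U' : Set G) =
          ((S : Subgroup G) ⊓ normalizer (U : Set G)).map (MulAut.conj h).toMonoidHom ∧
        Good p (S : Subgroup G) U' := by
    subst he
    set N' := normalizer ((U.map (MulAut.conj h).toMonoidHom : Subgroup G) : Set G) with hN'def
    have hN' : N' = (normalizer (U : Set G)).map (MulAut.conj h).toMonoidHom :=
      Cfsg.Lib.Coprime.normalizer_conjMap h U
    set R := ((S : Subgroup G) ⊓ normalizer (U : Set G)).map (MulAut.conj h).toMonoidHom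
    have hRN : R ≤ N' := hN' ▸ map_mono inf_le_right
    have hRS : R ≤ (S : Subgroup G) := ((map_mono hle).trans hhN).trans inf_le_left
    have hnd : ¬ p ∣ R.relIndex N' := by
      rw [hN', relIndex_map_map_of_injective _ _ (MulAut.conj h).injective]
      exact hg
    have heq := eq_of_nd (le_inf hRS hRN) inf_le_right (S.2.to_le inf_le_left) hnd
    refine ⟨heq.symm, ?_⟩
    show ¬ p ∣ ((S : Subgroup G) ⊓ N').relIndex N'
    rw [← heq]; exact hnd

end tower

/-- lists of steps from a chain -/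
theorem family_conclusion {𝓕 : Set (Subgroup G)} {A : Set G} {c : G}
    (h : Chain (FamStep 𝓕) A c) :
    ∃ (n : ℕ) (T : Fin n → Subgroup G) (x : Fin n → G), (List.ofFn x).prod = c⁻¹ ∧
      (∀ i, T i ∈ 𝓕) ∧ (∀ i, x i ∈ normalizer ((T i : Subgroup G) : Set G)) ∧
      ∀ i : Fin n, (fun a => (((List.ofFn x).take i.val).prod)⁻¹ * a *
        ((List.ofFn x).take i.val).prod) '' A ⊆ T i := by
  induction h with
  | one => exact ⟨0, Fin.elim0, Fin.elim0, by simp, fun i => i.elim0, fun i => i.elim0, fun i => i.elim0⟩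
  | @mul y c _ hst ih =>
    obtain ⟨n, T, x, hx, hT, hxN, hA⟩ := ih
    obtain ⟨U, hU, hBU, hyU⟩ := hst
    have hofn : List.ofFn (Fin.snoc x y⁻¹ : Fin (n + 1) → G) = List.ofFn x ++ [y⁻¹] := by
      rw [List.ofFn_succ', List.concat_eq_append]
      simp [Fin.snoc_castSucc, Fin.snoc_last]
    refine ⟨n + 1, Fin.snoc T U, Fin.snoc x y⁻¹, ?_, ?_, ?_, ?_⟩
    · rw [hofn, List.prod_append, hx]; simp
    · intro i
      refine Fin.lastCases ?_ (fun j => ?_) i
      · rw [Fin.snoc_last]; exact hU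
      · rw [Fin.snoc_castSucc]; exact hT j
    · intro i
      refine Fin.lastCases ?_ (fun j => ?_) i
      · rw [Fin.snoc_last, Fin.snoc_last]; exact inv_mem hyU
      · rw [Fin.snoc_castSucc, Fin.snoc_castSucc]; exact hxN j
    · intro i
      rw [hofn]
      refine Fin.lastCases ?_ (fun j => ?_) i
      · rw [Fin.snoc_last, Fin.val_last, List.take_append_of_le_length (by simp),
          List.take_of_length_le (by simp), hx, inv_inv]
        exact hBU
      · rw [Fin.snoc_castSucc, Fin.val_castSucc, List.take_append_of_le_length (by simp)]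
        exact hA j

theorem isConjugationFamily_of_chain {S : Subgroup G} {𝓕 : Set (Subgroup G)} (h𝓕 : ∀ T ∈ 𝓕, T ≤ S)
    (h : ∀ (A : Set G) (g : G), A ⊆ S → img g A ⊆ S → Chain (FamStep 𝓕) A g) :
    Cfsg.IsConjugationFamily 𝓕 S := by
  refine ⟨h𝓕, fun A g _ hA hgA => ?_⟩
  obtain ⟨n, T, x, hx, hT, hxN, hi⟩ := family_conclusion (h A g⁻¹ hA (by
    refine img_subset_iff.mpr fun a ha => ?_
    rw [inv_inv]
    exact hgA ⟨a, ha, rfl⟩))
  refine ⟨n, T, x, by rw [hx, inv_inv], hT, hxN, fun h0 => ?_, fun i hin => hi ⟨i.val + 1, hin⟩⟩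
  have := hi ⟨0, h0⟩
  simpa using this

variable {𝓦 : Set (Subgroup G → Subgroup G)}

theorem fin_chain_of_chain {H R : Subgroup G} {A : Set G} {c : G} (hA : A ⊆ (R : Set G))
    (h : Chain (StepIn 𝓦 H R) A c) :
    ∃ (n : ℕ) (d : Fin (n + 1) → G), d 0 = 1 ∧
      (∀ i : Fin n, ∃ W ∈ 𝓦, d i.succ * (d i.castSucc)⁻¹ ∈ H ⊓ normalizer ((W R : Subgroup G) : Set G)) ∧
      (∀ i : Fin (n + 1), img (d i) A ⊆ (R : Set G)) ∧ d (Fin.last n) = c := by
  induction h with
  | one => exact ⟨0, fun _ => 1, rfl, fun i => i.elim0, fun i => by rwa [img_one], rfl⟩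
  | @mul x c _ hst ih =>
    obtain ⟨n, d, hd0, hd, hdA, hdl⟩ := ih
    obtain ⟨⟨W, hW, hx⟩, -, hxB⟩ := hst
    refine ⟨n + 1, Fin.snoc d (x * c), ?_, ?_, ?_, Fin.snoc_last _ _⟩
    · rw [show (0 : Fin (n + 1 + 1)) = (0 : Fin (n + 1)).castSucc from rfl, Fin.snoc_castSucc, hd0]
    · intro i
      refine Fin.lastCases ?_ (fun j => ?_) i
      · refine ⟨W, hW, ?_⟩
        rw [Fin.succ_last, Fin.snoc_last, Fin.snoc_castSucc, hdl, mul_inv_cancel_right]
        exact hx
      · rw [Fin.succ_castSucc, Fin.snoc_castSucc, Fin.snoc_castSucc]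
        exact hd j
    · intro i
      refine Fin.lastCases ?_ (fun j => ?_) i
      · rw [Fin.snoc_last, ← img_img]; exact hxB
      · rw [Fin.snoc_castSucc]; exact hdA j

theorem familyControls_of_agree (S : Sylow p G)
    (h : ∀ (A : Set G) (g : G), A ⊆ (S : Subgroup G) → img g A ⊆ (S : Subgroup G) →
      Agree 𝓦 ⊤ (S : Subgroup G) A g) : Cfsg.FamilyControlsStrongFusionIn p 𝓦 ⊤ := by
  refine ⟨(S : Subgroup G), le_top, S.2, by rw [relIndex_top_right]; exact S.not_dvd_index,
    fun A g _ hA hgA => ?_⟩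
  obtain ⟨c, hc, hcg⟩ := h A g hA hgA
  obtain ⟨n, d, hd0, hd, hdA, hdl⟩ := fin_chain_of_chain hA hc
  exact ⟨n, d, hd0, hd, hdA, fun a ha => by rw [hdl]; exact hcg a ha⟩

theorem chain_singleton {W : Subgroup G → Subgroup G} {H R : Subgroup G} {A : Set G} {c : G}
    (h : Chain (StepIn {W} H R) A c) : c ∈ H ⊓ normalizer ((W R : Subgroup G) : Set G) := by
  induction h with
  | one => exact one_mem _
  | mul _ hst ih =>
    obtain ⟨⟨W', hW', hx⟩, -, -⟩ := hst
    rw [Set.mem_singleton_iff] at hW'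
    subst hW'
    exact mul_mem hx ih

theorem controls_of_agree {W : Subgroup G → Subgroup G} (S : Sylow p G)
    (h : ∀ (A : Set G) (g : G), A ⊆ (S : Subgroup G) → img g A ⊆ (S : Subgroup G) →
      Agree {W} ⊤ (S : Subgroup G) A g) : Cfsg.ControlsStrongFusionIn p W ⊤ := by
  refine ⟨(S : Subgroup G), le_top, S.2, by rw [relIndex_top_right]; exact S.not_dvd_index,
    fun A g _ hA hgA => ?_⟩
  obtain ⟨c, hc, hcg⟩ := h A g hA hgA
  exact ⟨c, chain_singleton hc, hcg⟩

/-- from the statements' local hypothesis -/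
theorem agree_of_familyControls (hconj : ∀ W ∈ 𝓦, Cfsg.IsConjugacyFunctor p W) {H R : Subgroup G}
    (hRH : R ≤ H) (hRp : IsPGroup p R) (hRnd : ¬ p ∣ R.relIndex H)
    (h : Cfsg.FamilyControlsStrongFusionIn p 𝓦 H) :
    ∀ (A : Set G) (y : G), y ∈ H → A ⊆ R → img y A ⊆ R → Agree 𝓦 H R A y := by
  obtain ⟨T, hTH, hTp, hTnd, hT⟩ := h
  let P₁ : Sylow p H := (hTp.comap_subtype (K := H)).toSylow hTnd
  let P₀ : Sylow p H := (hRp.comap_subtype (K := H)).toSylow hRnd
  obtain ⟨m, hm⟩ := MulAction.exists_smul_eq H P₁ P₀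
  have hmT : ∀ x, x ∈ T ↔ (m : G) * x * (m : G)⁻¹ ∈ R := by
    intro x
    constructor
    · intro hx
      have h5 : m * ⟨x, hTH hx⟩ * m⁻¹ ∈ (P₀ : Subgroup H) := by
        rw [← hm]
        exact Cfsg.Lib.Transfer.mem_conj_sylow_iff.mpr hx
      exact h5
    · intro hx
      have hxH : x ∈ H := by
        have := mul_mem (mul_mem (inv_mem m.2) (hRH hx)) m.2
        simpa [mul_assoc] using this
      have h5 : m * ⟨x, hxH⟩ * m⁻¹ ∈ (P₀ : Subgroup H) := hx
      rw [← hm] at h5
      exact Cfsg.Lib.Transfer.mem_conj_sylow_iff.mp h5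
  have hTR : T.map (MulAut.conj (m : G)).toMonoidHom = R := by
    ext z
    constructor
    · rintro ⟨x, hx, rfl⟩; exact (hmT x).mp hx
    · intro hz
      exact ⟨(m : G)⁻¹ * z * m, (hmT _).mpr (by simpa [mul_assoc] using hz), by simp [mul_assoc]⟩
  intro A y hy hA hyA
  set μ := (m : G)
  obtain ⟨n, d, hd0, hd, hdA, hdl⟩ := hT (img μ⁻¹ A) (μ⁻¹ * y * μ)
    (H.mul_mem (H.mul_mem (H.inv_mem m.2) hy) m.2)
    (img_subset_iff.mpr fun a ha => (hmT _).mpr (by simpa [mul_assoc] using hA ha))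
    (by
      show img (μ⁻¹ * y * μ) (img μ⁻¹ A) ⊆ T
      rw [img_img]
      refine img_subset_iff.mpr fun a ha => (hmT _).mpr ?_
      have := hyA ⟨a, ha, rfl⟩
      simpa [mul_assoc] using this)
  have key : ∀ i : Fin (n + 1), Chain (StepIn 𝓦 H R) A (μ * d i * μ⁻¹) := by
    have himg : ∀ i : Fin (n + 1), img (μ * d i * μ⁻¹) A ⊆ (R : Set G) := fun i =>
      img_subset_iff.mpr fun a ha => by
        have := (hmT _).mp (hdA i ⟨μ⁻¹ * a * μ⁻¹⁻¹, ⟨a, ha, rfl⟩, rfl⟩)
        simpa [mul_assoc] using this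
    intro i
    induction i using Fin.induction with
    | zero => rw [hd0, mul_one, mul_inv_cancel]; exact Chain.one
    | succ i ih =>
      obtain ⟨W, hW, hWd⟩ := hd i
      set x := μ * (d i.succ * (d i.castSucc)⁻¹) * μ⁻¹ with hx
      rw [show μ * d i.succ * μ⁻¹ = x * (μ * d i.castSucc * μ⁻¹) by rw [hx]; group]
      refine Chain.mul ih ⟨⟨W, hW, H.mul_mem (H.mul_mem m.2 hWd.1) (H.inv_mem m.2), ?_⟩, himg _, ?_⟩
      · show x ∈ normalizer ((W R : Subgroup G) : Set G)
        rw [← hTR, (hconj W hW T hTp).2.2 μ, show normalizer (((W T).map (MulAut.conj μ).toMonoidHom : Subgroup G) : Set G) =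
          (normalizer (W T : Set G)).map (MulAut.conj μ).toMonoidHom from Cfsg.Lib.Coprime.normalizer_conjMap μ (W T)]
        exact ⟨_, hWd.2, rfl⟩
      · rw [img_img, show x * (μ * d i.castSucc * μ⁻¹) = μ * d i.succ * μ⁻¹ by rw [hx]; group]
        exact himg _
  refine ⟨_, key (Fin.last n), fun a ha => ?_⟩
  have := hdl _ ⟨a, ha, rfl⟩
  have h2 := congrArg (fun z => μ * z * μ⁻¹) this
  simpa [mul_assoc] using h2

theorem family_of_controls {W : Subgroup G → Subgroup G} {H : Subgroup G}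
    (h : Cfsg.ControlsStrongFusionIn p W H) : Cfsg.FamilyControlsStrongFusionIn p {W} H := by
  obtain ⟨T, hTH, hTp, hTnd, hT⟩ := h
  refine ⟨T, hTH, hTp, hTnd, fun A g hg hA hgA => ?_⟩
  obtain ⟨x, hx, hxg⟩ := hT A g hg hA hgA
  have hc : Chain (StepIn {W} H T) A x := Chain.single
    ⟨⟨W, rfl, hx⟩, hA, (img_congr hxg).symm ▸ hgA⟩
  obtain ⟨n, d, hd0, hd, hdA, hdl⟩ := fin_chain_of_chain hA hc
  exact ⟨n, d, hd0, hd, hdA, fun a ha => by rw [hdl]; exact hxg a ha⟩

theorem agree_of_conjugacyFunctors (S : Sylow p G) (𝓕 : Set (Subgroup G))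
    (h𝓦 : ∀ W ∈ 𝓦, Cfsg.IsConjugacyFunctor p W) (h𝓕 : ∀ U ∈ 𝓕, U ≤ (S : Subgroup G))
    (hgood : ∀ T : Subgroup G, T ≤ (S : Subgroup G) → ∃ U ∈ 𝓕,
      (∃ g : G, T.map (MulAut.conj g).toMonoidHom = U) ∧ Good p (S : Subgroup G) U)
    (hfg : ∀ U ∈ 𝓕, Good p (S : Subgroup G) U)
    (hloc : ∀ U ∈ 𝓕, U ≠ ⊥ → Cfsg.FamilyControlsStrongFusionIn p 𝓦 (normalizer (U : Set G))) :
    ∀ (A : Set G) (g : G), A ⊆ (S : Subgroup G) → img g A ⊆ (S : Subgroup G) →
      Agree 𝓦 ⊤ (S : Subgroup G) A g :=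
  agree_of_local S 𝓦 𝓕 h𝓕 hgood hfg (fun W hW R hR => (h𝓦 W hW R (S.2.to_le hR)).1)
    (fun W hW R g hR _ => (h𝓦 W hW R (S.2.to_le hR)).2.2 g)
    (fun W hW U hU hU1 => (h𝓦 W hW _ (S.2.to_le inf_le_left)).2.1 fun h =>
      hU1 (le_bot_iff.mp (h ▸ le_inf hU le_normalizer)))
    (fun U hU hU1 A y hy hA hyA => agree_of_familyControls h𝓦 inf_le_right (S.2.to_le inf_le_left)
      (hfg U hU) (hloc U hU hU1) A y hy hA hyA)

end Cfsg.Lib.Control
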