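import Cfsg.Agent.Components.Control.Functors
import Cfsg.Agent.Components.Misc.Kieler
import Cfsg.Agent.Components.LocalBalance

/-!
Local-to-global control of strong fusion by a functor together with a central functor.
-/

set_option linter.style.haveILetI false
set_option linter.unusedSectionVars false

namespace Cfsg.Lib.Control

open Subgroup

variable {G : Type*} [Group G] {p : ℕ} {W V : Subgroup G → Subgroup G} {H R : Subgroup G}

/-- a step in `H` normalizing `W R` or centralizing `V R`, inside `R` -/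
def PairStep (W V : Subgroup G → Subgroup G) (H R : Subgroup G) (x : G) (B : Set G) : Prop :=
  (x ∈ H ⊓ normalizer ((W R : Subgroup G) : Set G) ∨ x ∈ H ⊓ centralizer ((V R : Subgroup G) : Set G)) ∧
    B ⊆ R ∧ img x B ⊆ R

theorem pairStep_mono (W V : Subgroup G → Subgroup G) (H R : Subgroup G) :
    ∀ x B B', B ⊆ B' → PairStep W V H R x B' → PairStep W V H R x B :=
  fun _ _ _ h ⟨hx, hB, hxB⟩ => ⟨hx, h.trans hB, (img_mono h).trans hxB⟩

theorem pairStep_inv (W V : Subgroup G → Subgroup G) (H R : Subgroup G) :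
    ∀ x B, PairStep W V H R x B → PairStep W V H R x⁻¹ (img x B) :=
  fun x B ⟨hx, hB, hxB⟩ => ⟨hx.imp inv_mem inv_mem, hxB, by
    rwa [img_img, inv_mul_cancel, img_one]⟩

/-- `g` agrees on `A` with a chain of such steps -/
def PAgree (W V : Subgroup G → Subgroup G) (H R : Subgroup G) (A : Set G) (g : G) : Prop :=
  ∃ c, Chain (PairStep W V H R) A c ∧ ∀ a ∈ A, c * a * c⁻¹ = g * a * g⁻¹

theorem PAgree.trans {A : Set G} {g g' : G} (h : PAgree W V H R A g) (h' : PAgree W V H R (img g A) g') :
    PAgree W V H R A (g' * g) := by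
  obtain ⟨c, hc, hcg⟩ := h
  obtain ⟨d, hd, hdg⟩ := h'
  rw [← img_congr hcg] at hd
  refine ⟨d * c, hc.trans hd, fun a ha => ?_⟩
  calc d * c * a * (d * c)⁻¹ = d * (c * a * c⁻¹) * d⁻¹ := by group
    _ = d * (g * a * g⁻¹) * d⁻¹ := by rw [hcg a ha]
    _ = g' * (g * a * g⁻¹) * g'⁻¹ := hdg _ ⟨a, ha, rfl⟩
    _ = _ := by group

theorem PAgree.inv {A : Set G} {g : G} (h : PAgree W V H R A g) : PAgree W V H R (img g A) g⁻¹ := by
  obtain ⟨c, hc, hcg⟩ := h
  refine ⟨c⁻¹, by rw [← img_congr hcg]; exact hc.inv (pairStep_inv W V H R), ?_⟩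
  rintro _ ⟨a, ha, rfl⟩
  show c⁻¹ * (g * a * g⁻¹) * c⁻¹⁻¹ = g⁻¹ * (g * a * g⁻¹) * g⁻¹⁻¹
  rw [← hcg a ha]
  conv_rhs => rw [hcg a ha]
  group

theorem PAgree.mono {A B : Set G} {g : G} (hAB : A ⊆ B) (h : PAgree W V H R B g) : PAgree W V H R A g :=
  let ⟨c, hc, hcg⟩ := h
  ⟨c, hc.mono (pairStep_mono W V H R) hAB, fun a ha => hcg a (hAB ha)⟩

theorem PAgree.congr {A : Set G} {g g' : G} (e : ∀ a ∈ A, g * a * g⁻¹ = g' * a * g'⁻¹)
    (h : PAgree W V H R A g) : PAgree W V H R A g' :=
  let ⟨c, hc, hcg⟩ := h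
  ⟨c, hc, fun a ha => (hcg a ha).trans (e a ha)⟩

variable [Finite G] [Fact p.Prime]

/-- transport through a conjugation into the normalizer of a good subgroup -/
theorem through (S : Sylow p G) {N₁ U₁ U₁' : Subgroup G} {h x : G} {B : Set G}
    (hh : U₁.map (MulAut.conj h).toMonoidHom = U₁')
    (hhN : N₁.map (MulAut.conj h).toMonoidHom ≤ (S : Subgroup G) ⊓ normalizer (U₁' : Set G))
    (hctl : PAgree W V ⊤ (S : Subgroup G) (N₁ : Set G) h)
    (hx : x ∈ normalizer (U₁ : Set G)) (hB : B ⊆ N₁) (hxB : img x B ⊆ N₁)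
    (hP : ∀ (A : Set G) (y : G), y ∈ normalizer (U₁' : Set G) →
      A ⊆ ((S : Subgroup G) ⊓ normalizer (U₁' : Set G) : Subgroup G) →
      img y A ⊆ ((S : Subgroup G) ⊓ normalizer (U₁' : Set G) : Subgroup G) →
      PAgree W V ⊤ (S : Subgroup G) A y) :
    PAgree W V ⊤ (S : Subgroup G) B x := by
  have hh' : ∀ z ∈ N₁, h * z * h⁻¹ ∈ (S : Subgroup G) ⊓ normalizer (U₁' : Set G) :=
    fun z hz => hhN ⟨z, hz, rfl⟩
  have hx' : h * x * h⁻¹ ∈ normalizer (U₁' : Set G) := by
    rw [← hh, show normalizer ((U₁.map (MulAut.conj h).toMonoidHom : Subgroup G) : Set G) =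
      (normalizer (U₁ : Set G)).map (MulAut.conj h).toMonoidHom from Cfsg.Lib.Coprime.normalizer_conjMap h U₁]
    exact ⟨x, hx, rfl⟩
  have e : img (h * x * h⁻¹) (img h B) = img h (img x B) := by
    rw [img_img h (h * x * h⁻¹) B, img_img x h B, inv_mul_cancel_right]
  have h2 : PAgree W V ⊤ (S : Subgroup G) (img h B) (h * x * h⁻¹) :=
    hP _ _ hx' (img_subset_iff.mpr fun z hz => hh' z (hB hz))
      (by rw [e]; exact img_subset_iff.mpr fun z hz => hh' z (hxB hz))
  have h4 := ((hctl.mono hB).trans h2).trans (g' := h⁻¹) (by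
    rw [← img_img, e]
    exact (hctl.mono hxB).inv)
  simpa [mul_assoc] using h4

/-- every conjugate of `X` in `S` contains `Z(S)` -/
def Cen (S X : Subgroup G) : Prop :=
  ∀ g : G, X.map (MulAut.conj g).toMonoidHom ≤ S → S ⊓ centralizer (S : Set G) ≤ X.map (MulAut.conj g).toMonoidHom

theorem conj_comp (X : Subgroup G) (a b : G) :
    (X.map (MulAut.conj a).toMonoidHom).map (MulAut.conj b).toMonoidHom =
      X.map (MulAut.conj (b * a)).toMonoidHom := by
  rw [map_map]
  congr 1
  ext x; simp [mul_assoc]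

theorem Cen.map {S X : Subgroup G} (h : Cen S X) (a : G) : Cen S (X.map (MulAut.conj a).toMonoidHom) := by
  intro g hg
  rw [conj_comp] at hg ⊢
  exact h _ hg

theorem Cen.mono {S X Y : Subgroup G} (h : Cen S X) (hXY : X ≤ Y) : Cen S Y :=
  fun g hg => (h g ((map_mono hXY).trans hg)).trans (map_mono hXY)

theorem pairCtrl (S : Sylow p G) (hW : Cfsg.IsConjugacyFunctor p W)
    (hWZ : ∀ H : Subgroup G, IsPGroup p H → H ⊓ centralizer (H : Set G) ≤ W H)
    (hVmono : ∀ R : Subgroup G, R ≤ (S : Subgroup G) → (S : Subgroup G) ⊓ centralizer ((S : Subgroup G) : Set G) ≤ R →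
      V (S : Subgroup G) ≤ V R)
    (hloc : ∀ U : Subgroup G, U ≤ (S : Subgroup G) → (S : Subgroup G) ⊓ centralizer ((S : Subgroup G) : Set G) ≤ U →
      Good p (S : Subgroup G) U → ∀ (A : Set G) (y : G), y ∈ normalizer (U : Set G) →
      A ⊆ ((S : Subgroup G) ⊓ normalizer (U : Set G) : Subgroup G) →
      img y A ⊆ ((S : Subgroup G) ⊓ normalizer (U : Set G) : Subgroup G) →
      PAgree W V (normalizer (U : Set G)) ((S : Subgroup G) ⊓ normalizer (U : Set G)) A y) :
    ∀ (A : Set G) (g : G), A ⊆ (S : Subgroup G) → img g A ⊆ (S : Subgroup G) →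
      PAgree W V ⊤ (S : Subgroup G) A g := by
  set ZS := (S : Subgroup G) ⊓ centralizer ((S : Subgroup G) : Set G)
  have hnW : ∀ x : G, ∀ R : Subgroup G, IsPGroup p R → x ∈ normalizer (R : Set G) →
      x ∈ normalizer ((W R : Subgroup G) : Set G) := fun x R hR hx => by
    rw [← Cfsg.Lib.Transfer.map_conj_eq_self_iff] at hx ⊢
    rw [← (hW R hR).2.2, hx]
  have hWS : normalizer ((S : Subgroup G) : Set G) ≤ normalizer ((W (S : Subgroup G) : Subgroup G) : Set G) :=
    fun x hx => hnW x _ S.2 hx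
  suffices key : ∀ n : ℕ,
      (∀ (A : Set G) (g : G), A ⊆ (S : Subgroup G) → img g A ⊆ (S : Subgroup G) →
        Nat.card (S : Subgroup G) - Nat.card (closure A) = n → PAgree W V ⊤ (S : Subgroup G) A g) ∧
      (∀ U : Subgroup G, U ≤ (S : Subgroup G) → ZS ≤ U → Good p (S : Subgroup G) U →
        Cen (S : Subgroup G) ((S : Subgroup G) ⊓ normalizer (U : Set G)) →
        Nat.card (S : Subgroup G) - Nat.card ((S : Subgroup G) ⊓ normalizer (U : Set G) : Subgroup G) = n →
        ∀ (A : Set G) (y : G), y ∈ normalizer (U : Set G) →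
        A ⊆ ((S : Subgroup G) ⊓ normalizer (U : Set G) : Subgroup G) →
        img y A ⊆ ((S : Subgroup G) ⊓ normalizer (U : Set G) : Subgroup G) →
        PAgree W V ⊤ (S : Subgroup G) A y) from
    fun A g hA hgA => (key _).1 A g hA hgA rfl
  intro n
  induction n using Nat.strong_induction_on with
  | _ n ih =>
  -- the larger sets
  have hbigQ : ∀ (N₁ : Subgroup G) (h : G), Nat.card (S : Subgroup G) - Nat.card N₁ < n →
      N₁ ≤ (S : Subgroup G) → N₁.map (MulAut.conj h).toMonoidHom ≤ (S : Subgroup G) →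
      PAgree W V ⊤ (S : Subgroup G) (N₁ : Set G) h := fun N₁ h hlt hN hh =>
    (ih _ hlt).1 (N₁ : Set G) h hN (by rw [img_eq_map]; exact hh) (by rw [closure_eq])
  -- a step through a subgroup with a larger normalizer in `S`
  have via : ∀ (U₁ : Subgroup G) (x : G) (B : Set G), U₁ ≤ (S : Subgroup G) →
      Cen (S : Subgroup G) ((S : Subgroup G) ⊓ normalizer (U₁ : Set G)) →
      (∀ h : G, ((S : Subgroup G) ⊓ normalizer (U₁ : Set G)).map (MulAut.conj h).toMonoidHom ≤ (S : Subgroup G) →
        ZS ≤ U₁.map (MulAut.conj h).toMonoidHom) →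
      Nat.card (S : Subgroup G) - Nat.card ((S : Subgroup G) ⊓ normalizer (U₁ : Set G) : Subgroup G) < n →
      x ∈ normalizer (U₁ : Set G) → B ⊆ ((S : Subgroup G) ⊓ normalizer (U₁ : Set G) : Subgroup G) →
      img x B ⊆ ((S : Subgroup G) ⊓ normalizer (U₁ : Set G) : Subgroup G) →
      PAgree W V ⊤ (S : Subgroup G) B x := by
    intro U₁ x B hU₁ hcen hZ hlt hx hB hxB
    obtain ⟨a, ha, hgood⟩ := exists_good S hU₁
    obtain ⟨h, hh, hhN⟩ := exists_conj_normalizer S rfl hgood
    set U' := U₁.map (MulAut.conj a).toMonoidHom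
    have hsub := hhN.trans inf_le_left
    refine through S hh hhN (hbigQ _ h hlt inf_le_left hsub) hx hB hxB ?_
    have hZ' : ZS ≤ U' := hh ▸ hZ h hsub
    have hc' : Cen (S : Subgroup G) ((S : Subgroup G) ⊓ normalizer (U' : Set G)) := (hcen.map h).mono hhN
    refine (ih _ ?_).2 U' ha hZ' hgood hc' rfl
    have h1 := card_le_of_le hhN
    rw [Cfsg.Lib.Transfer.card_map_conj] at h1
    omega
  refine ⟨?_, ?_⟩
  · -- subsets
    intro A g hA hgA hn
    refine PAgree.mono subset_closure ?_
    set T := closure A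
    have hTS : T ≤ (S : Subgroup G) := (closure_le _).mpr hA
    set T2 := T.map (MulAut.conj g).toMonoidHom with hT2
    have hT2S : T2 ≤ (S : Subgroup G) := by rw [hT2, ← closure_img]; exact (closure_le _).mpr hgA
    have hcard : Nat.card T2 = Nat.card T := Cfsg.Lib.Transfer.card_map_conj _ g
    by_cases hT : T = (S : Subgroup G)
    · have hg : g ∈ normalizer ((S : Subgroup G) : Set G) := by
        rw [← Cfsg.Lib.Transfer.map_conj_eq_self_iff]
        rw [← hT]
        exact eq_of_le_of_card_ge (hT2S.trans hT.ge) hcard.ge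
      exact ⟨g, Chain.single ⟨Or.inl ⟨mem_top g, hWS hg⟩, hTS, by rw [img_eq_map]; exact hT2S⟩, fun _ _ => rfl⟩
    have hlt : T < (S : Subgroup G) := lt_of_le_of_ne hTS hT
    have hlt2 : T2 < (S : Subgroup G) := lt_of_le_of_ne hT2S fun e => hT
      (eq_of_le_of_card_ge hTS (by rw [← hcard, e]))
    have grow : ∀ X : Subgroup G, X < (S : Subgroup G) → Nat.card X = Nat.card T →
        Nat.card (S : Subgroup G) - Nat.card ((S : Subgroup G) ⊓ normalizer (X : Set G) : Subgroup G) < n ∧
        X ≤ (S : Subgroup G) ⊓ normalizer (X : Set G) := fun X hX hXc => by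
      have h1 := card_lt_normalizer S.2 hX
      have h2 : Nat.card ((S : Subgroup G) ⊓ normalizer (X : Set G) : Subgroup G) ≤
        Nat.card (S : Subgroup G) := card_le_of_le inf_le_left
      exact ⟨by omega, le_inf hX.le le_normalizer⟩
    obtain ⟨a, hUS, hgood⟩ := exists_good S hTS
    set U := T.map (MulAut.conj a).toMonoidHom with hU
    obtain ⟨h₁, hh₁, hh₁N⟩ := exists_conj_normalizer S (U := U) rfl hgood
    obtain ⟨h₂, hh₂, hh₂N⟩ := exists_conj_normalizer S (T := T2) (U := U) (a := a * g⁻¹)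
      (by rw [hT2, conj_comp, inv_mul_cancel_right]) hgood
    have c₁ : PAgree W V ⊤ (S : Subgroup G) (T : Set G) h₁ :=
      (hbigQ _ h₁ (grow T hlt rfl).1 inf_le_left (hh₁N.trans inf_le_left)).mono (grow T hlt rfl).2
    have c₂ : PAgree W V ⊤ (S : Subgroup G) (T2 : Set G) h₂ :=
      (hbigQ _ h₂ (grow T2 hlt2 hcard).1 inf_le_left (hh₂N.trans inf_le_left)).mono (grow T2 hlt2 hcard).2
    have hUc : Nat.card U = Nat.card T := Cfsg.Lib.Transfer.card_map_conj _ a
    set y := h₂ * g * h₁⁻¹ with hy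
    have hyU : y ∈ normalizer (U : Set G) := by
      rw [← Cfsg.Lib.Transfer.map_conj_eq_self_iff]
      conv_rhs => rw [← hh₂, hT2, conj_comp]
      conv_lhs => rw [← hh₁, conj_comp]
      congr 3
      rw [hy]; group
    -- Frattini argument in `N(U)`
    have hmid : PAgree W V ⊤ (S : Subgroup G) (U : Set G) y := by
      set N := normalizer (U : Set G) with hN
      let P₀ : Sylow p N := ((S.2.to_le (inf_le_left : (S : Subgroup G) ⊓ N ≤ S)).comap_subtype (K := N)).toSylow hgood
      haveI hCn : ((centralizer (U : Set G)).subgroupOf N).Normal :=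
        normal_subgroupOf_of_le_normalizer (Cfsg.Lib.Components.normalizer_le_normalizer_centralizer' U)
      set C := (centralizer (U : Set G)).subgroupOf N
      obtain ⟨QC, hQC⟩ := Cfsg.Lib.Kieler.exists_sylow_of_subnormal P₀ hCn.isSubnormal
      set C₀ := (S : Subgroup G) ⊓ centralizer (U : Set G) with hC₀
      have hQC' : (QC : Subgroup C).map C.subtype = C₀.subgroupOf N := by
        rw [hQC, subgroupOf_map_subtype]
        ext z
        constructor
        · rintro ⟨hzS, hzC⟩
          exact ⟨(mem_subgroupOf.1 hzS).1, hzC⟩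
        · rintro ⟨hzS, hzC⟩
          exact ⟨mem_subgroupOf.2 ⟨hzS, z.2⟩, hzC⟩
      have hfr := Sylow.normalizer_sup_eq_top (N := C) QC
      rw [hQC'] at hfr
      obtain ⟨b, hb, c, hc, hbc⟩ := mem_sup_of_normal_right.1 (hfr.ge (mem_top (⟨y, hyU⟩ : N)))
      have hbc' : (b : G) * (c : G) = y := congrArg Subtype.val hbc
      have hcC : (c : G) ∈ centralizer (U : Set G) := hc
      have hagree : ∀ u ∈ U, (b : G) * u * (b : G)⁻¹ = y * u * y⁻¹ := fun u hu => by
        rw [← hbc']
        have : (c : G) * u = u * c := (mem_centralizer_iff.1 hcC u hu).symm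
        calc (b : G) * u * (b : G)⁻¹ = b * (u * c) * (c : G)⁻¹ * (b : G)⁻¹ := by group
          _ = b * c * u * ((b : G) * c)⁻¹ := by rw [← this]; group
      have hC₀N : C₀ ≤ N := inf_le_right.trans (centralizer_le_normalizer _)
      have hbC₀ : (b : G) ∈ normalizer (C₀ : Set G) := by
        rw [mem_normalizer_iff]
        intro z
        constructor
        · intro hz
          exact ((mem_normalizer_iff.1 hb ⟨z, hC₀N hz⟩).1 (mem_subgroupOf.2 hz) : _)
        · intro hz
          have hzN : z ∈ N := by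
            have := mul_mem (mul_mem (inv_mem b.2) (hC₀N hz)) b.2
            simpa [mul_assoc] using this
          exact mem_subgroupOf.1 ((mem_normalizer_iff.1 hb ⟨z, hzN⟩).2 (mem_subgroupOf.2 hz))
      set T' := U ⊔ C₀ with hT'
      have hbT' : (b : G) ∈ normalizer (T' : Set G) := by
        rw [← Cfsg.Lib.Transfer.map_conj_eq_self_iff, hT', Subgroup.map_sup,
          Cfsg.Lib.Transfer.map_conj_eq_self_iff.2 b.2, Cfsg.Lib.Transfer.map_conj_eq_self_iff.2 hbC₀]
      have hT'S : T' ≤ (S : Subgroup G) := sup_le hUS inf_le_left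
      have himg : img (b : G) (U : Set G) ⊆ (U : Set G) :=
        img_subset_iff.mpr fun u hu => (mem_normalizer_iff.1 b.2 u).1 hu
      refine PAgree.congr hagree ?_
      by_cases hT'e : T' = (S : Subgroup G)
      · exact ⟨b, Chain.single ⟨Or.inl ⟨mem_top _, hWS (hT'e ▸ hbT')⟩, hUS, himg.trans hUS⟩, fun _ _ => rfl⟩
      have hcen : Cen (S : Subgroup G) T' := by
        intro k hk z hz
        have hzk : k⁻¹ * z * k ∈ centralizer (T' : Set G) := mem_centralizer_iff.2 fun w hw => by
          have := mem_centralizer_iff.1 hz.2 _ (hk ⟨w, hw, rfl⟩)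
          calc w * (k⁻¹ * z * k) = k⁻¹ * ((k * w * k⁻¹) * z) * k := by group
            _ = k⁻¹ * (z * (k * w * k⁻¹)) * k := by
              rw [show (k * w * k⁻¹) * z = z * (k * w * k⁻¹) from this]
            _ = k⁻¹ * z * k * w := by group
        refine ⟨k⁻¹ * z * k, ?_, by simp [mul_assoc]⟩
        refine (le_sup_right : C₀ ≤ T') ?_
        set m := k⁻¹ * z * k
        have hmC : m ∈ centralizer (U : Set G) := centralizer_le (le_sup_left : U ≤ T') hzk
        have hmN : m ∈ N := centralizer_le_normalizer _ hmC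
        let mC : C := ⟨⟨m, hmN⟩, hmC⟩
        have hmp : IsPGroup p (zpowers mC) := by
          obtain ⟨j, hj⟩ := S.2 ⟨z, hz.1⟩
          refine IsPGroup.of_card_dvd_pow (n := j) ?_
          rw [Nat.card_zpowers]
          refine orderOf_dvd_of_pow_eq_one (Subtype.ext (Subtype.ext ?_))
          show m ^ p ^ j = 1
          have hz' : z ^ p ^ j = 1 := congrArg Subtype.val hj
          rw [show m = k⁻¹ * z * k⁻¹⁻¹ by rw [inv_inv], conj_pow, hz']
          group
        have hnorm : zpowers mC ≤ normalizer ((QC : Subgroup C) : Set C) := by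
          rw [zpowers_le]
          refine centralizer_le_normalizer _ (mem_centralizer_iff.2 fun q hq => ?_)
          have hq' : ((q : N) : G) ∈ C₀ := by
            have : (q : N) ∈ C₀.subgroupOf N := hQC' ▸ mem_map_of_mem C.subtype hq
            exact this
          exact Subtype.ext (Subtype.ext (mem_centralizer_iff.1 hzk _ ((le_sup_right : C₀ ≤ T') hq')))
        have hmQ : mC ∈ (QC : Subgroup C) :=
          (QC.3 (hmp.to_sup_of_normal_right' QC.2 hnorm) le_sup_right).le
            ((le_sup_left : zpowers mC ≤ _) (mem_zpowers mC))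
        have : (mC : N) ∈ C₀.subgroupOf N := hQC' ▸ mem_map_of_mem C.subtype hmQ
        exact this
      have hT'lt : T' < (S : Subgroup G) := lt_of_le_of_ne hT'S hT'e
      have h1 := card_lt_normalizer S.2 hT'lt
      have h2 : Nat.card U ≤ Nat.card T' := card_le_of_le le_sup_left
      have h3 : Nat.card ((S : Subgroup G) ⊓ normalizer (T' : Set G) : Subgroup G) ≤
          Nat.card (S : Subgroup G) := card_le_of_le inf_le_left
      have hsub : (U : Set G) ⊆ ((S : Subgroup G) ⊓ normalizer (T' : Set G) : Subgroup G) := fun u hu =>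
        ⟨hUS hu, le_normalizer ((le_sup_left : U ≤ T') hu)⟩
      exact via T' b _ hT'S (hcen.mono (le_inf hT'S le_normalizer))
        (fun h hh => hcen h ((map_mono (le_inf hT'S le_normalizer)).trans hh)) (by omega) hbT' hsub
        (himg.trans hsub)
    have e0 : img h₁ (T : Set G) = (U : Set G) := by rw [img_eq_map, hh₁]
    have e1 : img (y * h₁) (T : Set G) = img h₂ (T2 : Set G) := by
      rw [hT2, ← img_eq_map, img_img, hy]
      simp [mul_assoc]
    have h4 := (c₁.trans (g' := y) (by rw [e0]; exact hmid)).trans (g' := h₂⁻¹) (by rw [e1]; exact c₂.inv)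
    have e2 : h₂⁻¹ * (y * h₁) = g := by rw [hy]; group
    rwa [e2] at h4
  · -- normalizers
    intro U hUS hZU hgood hcenR hn A y hy hA hyA
    set R := (S : Subgroup G) ⊓ normalizer (U : Set G) with hR
    have hRS : R ≤ (S : Subgroup G) := inf_le_left
    have hRp : IsPGroup p R := S.2.to_le hRS
    have hZR : ZS ≤ R := hZU.trans (le_inf hUS le_normalizer)
    obtain ⟨c, hc, hcy⟩ := hloc U hUS hZU hgood A y hy hA hyA
    refine PAgree.congr hcy ?_
    clear hcy hyA
    induction hc with
    | one => exact ⟨1, Chain.one, fun _ _ => rfl⟩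
    | @mul x c _ hst ihc =>
      refine ihc.trans ?_
      obtain ⟨hx, hB, hxB⟩ := hst
      rcases hx with ⟨-, hxW⟩ | ⟨-, hxV⟩
      · by_cases hRe : R = (S : Subgroup G)
        · exact ⟨x, Chain.single ⟨Or.inl ⟨mem_top x, by rw [← congrArg W hRe]; exact hxW⟩,
            hB.trans hRS, hxB.trans hRS⟩, fun _ _ => rfl⟩
        have hU₁R : W R ≤ R := (hW R hRp).1
        have hle : (S : Subgroup G) ⊓ normalizer (R : Set G) ≤
            (S : Subgroup G) ⊓ normalizer ((W R : Subgroup G) : Set G) :=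
          le_inf inf_le_left fun u hu => hnW u R hRp hu.2
        have hR1 : R ≤ (S : Subgroup G) ⊓ normalizer ((W R : Subgroup G) : Set G) :=
          (le_inf hRS le_normalizer).trans hle
        have h1 := (card_lt_normalizer S.2 (lt_of_le_of_ne hRS hRe)).trans_le (card_le_of_le hle)
        have h3 : Nat.card ((S : Subgroup G) ⊓ normalizer ((W R : Subgroup G) : Set G) : Subgroup G) ≤
            Nat.card (S : Subgroup G) := card_le_of_le inf_le_left
        refine via (W R) x _ (hU₁R.trans hRS) (hcenR.mono hR1) ?_ (by omega) hxW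
          (hB.trans hR1) (hxB.trans hR1)
        intro h hh
        have hRh := (map_mono hR1).trans hh
        rw [← (hW R hRp).2.2 h]
        refine le_trans (le_inf (hcenR h hRh) fun z hz => ?_) (hWZ _ (hRp.map _))
        exact mem_centralizer_iff.2 fun w hw => mem_centralizer_iff.1 hz.2 w (hRh hw)
      · exact ⟨x, Chain.single ⟨Or.inr ⟨mem_top x, centralizer_le (hVmono R hRS hZR) hxV⟩,
          hB.trans hRS, hxB.trans hRS⟩, fun _ _ => rfl⟩

theorem list_of_chain {A : Set G} {Q : Subgroup G} (hAQ : A ⊆ Q) {c : G}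
    (hc : Chain (PairStep W V ⊤ Q) A c) :
    ∃ l : List G, (∀ b ∈ l, b ∈ normalizer ((W Q : Subgroup G) : Set G) ∨ b ∈ centralizer ((V Q : Subgroup G) : Set G)) ∧
      l.prod⁻¹ = c ∧ ∀ k : ℕ, img ((l.take k).prod)⁻¹ A ⊆ Q := by
  induction hc with
  | one => exact ⟨[], by simp, by simp, fun k => by simpa [img_one] using hAQ⟩
  | @mul x c _ hst ih =>
    obtain ⟨l, hl, hp, hk⟩ := ih
    obtain ⟨hx, hB, hxB⟩ := hst
    refine ⟨l ++ [x⁻¹], fun b hb => ?_, ?_, fun k => ?_⟩
    · rw [List.mem_append, List.mem_singleton] at hb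
      rcases hb with hb | rfl
      · exact hl b hb
      · exact hx.imp (fun h => inv_mem h.2) fun h => inv_mem h.2
    · rw [List.prod_append, List.prod_singleton, mul_inv_rev, inv_inv, hp]
    · rw [List.take_append]
      rcases Nat.eq_zero_or_pos (k - l.length) with h0 | h0
      · rw [h0, List.take_zero, List.append_nil]
        exact hk k
      · rw [List.take_of_length_le (show l.length ≤ k by omega),
          List.take_of_length_le (show [x⁻¹].length ≤ k - l.length by rw [List.length_singleton]; omega),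
          List.prod_append, List.prod_singleton, mul_inv_rev, inv_inv, hp, ← img_img]
        exact hxB

end Cfsg.Lib.Control
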