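import Cfsg.Agent.Components.Control.Functors
import Cfsg.Agent.Transfer.Fusion

/-!
Local control of transfer by conjugacy functors.
-/

set_option linter.style.haveILetI false
set_option linter.unusedSectionVars false

namespace Cfsg.Lib.Control

open Subgroup
open scoped commutatorElement

variable {G : Type*} [Group G]

/-- the subgroup generated by the local focal subgroups -/
def tgtIn (𝓦 : Set (Subgroup G → Subgroup G)) (H R : Subgroup G) : Subgroup G :=
  ⨆ W ∈ 𝓦, R ⊓ ⁅H ⊓ normalizer ((W R : Subgroup G) : Set G), H ⊓ normalizer ((W R : Subgroup G) : Set G)⁆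

theorem tgtIn_le {𝓦 : Set (Subgroup G → Subgroup G)} {H R : Subgroup G} : tgtIn 𝓦 H R ≤ R ⊓ ⁅H, H⁆ :=
  iSup₂_le fun _ _ => inf_le_inf_left _ (commutator_mono inf_le_left inf_le_left)

theorem tgtIn_le_top {𝓦 : Set (Subgroup G → Subgroup G)} {H R : Subgroup G} :
    tgtIn 𝓦 H R ≤ tgtIn 𝓦 ⊤ R :=
  iSup₂_mono fun _ _ => inf_le_inf_left _
    (commutator_mono (inf_le_inf_right _ le_top) (inf_le_inf_right _ le_top))

variable [Finite G] {p : ℕ} [Fact p.Prime]

theorem map_tgtIn {𝓦 : Set (Subgroup G → Subgroup G)} (h𝓦 : ∀ W ∈ 𝓦, Cfsg.IsConjugacyFunctor p W)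
    {H R : Subgroup G} (hR : IsPGroup p R) (c : G) :
    (tgtIn 𝓦 H R).map (MulAut.conj c).toMonoidHom =
      tgtIn 𝓦 (H.map (MulAut.conj c).toMonoidHom) (R.map (MulAut.conj c).toMonoidHom) := by
  have hinj : Function.Injective (MulAut.conj c).toMonoidHom := (MulAut.conj c).injective
  rw [tgtIn, tgtIn, Subgroup.map_iSup]
  refine iSup_congr fun W => ?_
  rw [Subgroup.map_iSup]
  refine iSup_congr fun hW => ?_
  rw [map_inf _ _ _ hinj, map_commutator, map_inf _ _ _ hinj, (h𝓦 W hW R hR).2.2 c]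
  congr 2 <;> rw [show normalizer (((W R).map (MulAut.conj c).toMonoidHom : Subgroup G) : Set G) =
    (normalizer (W R : Set G)).map (MulAut.conj c).toMonoidHom from Cfsg.Lib.Coprime.normalizer_conjMap c _]

/-- control of transfer for one Sylow subgroup gives it for each -/
theorem le_tgtIn_of_controls {𝓦 : Set (Subgroup G → Subgroup G)} (h𝓦 : ∀ W ∈ 𝓦, Cfsg.IsConjugacyFunctor p W)
    {H : Subgroup G} (h : Cfsg.FamilyControlsTransferIn p 𝓦 H) {R : Subgroup G} (hRH : R ≤ H)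
    (hR : IsPGroup p R) (hnd : ¬ p ∣ R.relIndex H) : R ⊓ ⁅H, H⁆ ≤ tgtIn 𝓦 H R := by
  obtain ⟨T, hTH, hT, hTnd, heq⟩ := h
  let T' : Sylow p H := (hT.comap_subtype (K := H)).toSylow hTnd
  let R' : Sylow p H := (hR.comap_subtype (K := H)).toSylow hnd
  obtain ⟨n, hn⟩ := MulAction.exists_smul_eq H T' R'
  have hTR : T.map (MulAut.conj (n : G)).toMonoidHom = R := by
    have h1 := congrArg (fun X : Sylow p H => (X : Subgroup H).map H.subtype) hn
    simp only [Cfsg.Lib.Transfer.sylow_smul_coe] at h1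
    rw [map_map, show H.subtype.comp (MulAut.conj n).toMonoidHom =
      (MulAut.conj (n : G)).toMonoidHom.comp H.subtype from MonoidHom.ext fun z => rfl, ← map_map] at h1
    show T.map _ = _
    rw [← map_subgroupOf_eq_of_le hTH, ← map_subgroupOf_eq_of_le hRH]
    exact h1
  have hHn : H.map (MulAut.conj (n : G)).toMonoidHom = H :=
    Cfsg.Lib.Transfer.map_conj_eq_self_iff.mpr (le_normalizer n.2)
  have hinj : Function.Injective (MulAut.conj (n : G)).toMonoidHom := (MulAut.conj (n : G)).injective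
  refine le_of_eq ?_
  calc R ⊓ ⁅H, H⁆ = (T ⊓ ⁅H, H⁆).map (MulAut.conj (n : G)).toMonoidHom := by
        rw [map_inf _ _ _ hinj, map_commutator, hHn, hTR]
    _ = (tgtIn 𝓦 H T).map (MulAut.conj (n : G)).toMonoidHom := by rw [heq]; rfl
    _ = _ := by rw [map_tgtIn h𝓦 hT, hHn, hTR]

theorem familyControls_of_le {𝓦 : Set (Subgroup G → Subgroup G)} (S : Sylow p G)
    (h : (S : Subgroup G) ⊓ commutator G ≤ tgtIn 𝓦 ⊤ (S : Subgroup G)) :
    Cfsg.FamilyControlsTransferIn p 𝓦 ⊤ := by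
  refine ⟨(S : Subgroup G), le_top, S.2, by rw [relIndex_top_right]; exact S.not_dvd_index, ?_⟩
  exact le_antisymm (by rw [← commutator_def]; exact h) tgtIn_le

theorem family_singleton_iff {W : Subgroup G → Subgroup G} {H : Subgroup G} :
    Cfsg.FamilyControlsTransferIn p {W} H ↔ Cfsg.ControlsTransferIn p W H := by
  simp only [Cfsg.FamilyControlsTransferIn, Cfsg.ControlsTransferIn, Set.mem_singleton_iff, iSup_iSup_eq_left]

/-- fusion differences along a chain -/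
theorem diff_mem (S : Sylow p G) {𝓕 : Set (Subgroup G)} {D : Subgroup G} (h𝓕 : ∀ U ∈ 𝓕, U ≤ (S : Subgroup G))
    {B : Subgroup G} {g : G}
    (hc : Chain (FamStep 𝓕) (B : Set G) g)
    (hP : ∀ U ∈ 𝓕, U ≠ ⊥ → Nat.card B ≤ Nat.card ((S : Subgroup G) ⊓ normalizer (U : Set G) : Subgroup G) →
      ((S : Subgroup G) ⊓ normalizer (U : Set G)) ⊓ ⁅normalizer (U : Set G), normalizer (U : Set G)⁆ ≤ D) :
    ∀ a ∈ B, a⁻¹ * (g * a * g⁻¹) ∈ D := by
  induction hc with
  | one => intro a _; simp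
  | @mul x c _ hst ih =>
    intro a ha
    obtain ⟨U, hU, hBU, hx⟩ := hst
    set b := c * a * c⁻¹
    have hbU : b ∈ U := hBU ⟨a, ha, rfl⟩
    have h1 : b⁻¹ * (x * b * x⁻¹) ∈ D := by
      by_cases hU1 : U = ⊥
      · rw [show b = 1 from mem_bot.mp (hU1 ▸ hbU)]; simp
      refine hP U hU hU1 ?_ ⟨le_inf (h𝓕 U hU) le_normalizer
        (mul_mem (inv_mem hbU) ((mem_normalizer_iff.mp hx b).mp hbU)), ?_⟩
      · rw [← Cfsg.Lib.Transfer.card_map_conj B c]
        refine card_le_of_le (le_trans ?_ (le_inf (h𝓕 U hU) le_normalizer))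
        rw [img_eq_map] at hBU
        exact hBU
      · rw [show b⁻¹ * (x * b * x⁻¹) = ⁅b⁻¹, x⁆ by simp only [commutatorElement_def]; group]
        exact commutator_mem_commutator (inv_mem (le_normalizer hbU)) hx
    have h2 := mul_mem (ih a ha) h1
    rw [show a⁻¹ * (c * a * c⁻¹) * (b⁻¹ * (x * b * x⁻¹)) = a⁻¹ * (x * c * a * (x * c)⁻¹) by
      simp only [b]; group] at h2
    exact h2

/-- **local control of transfer is global** -/
theorem transfer_of_local (S : Sylow p G) (𝓦 : Set (Subgroup G → Subgroup G))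
    (h𝓦 : ∀ W ∈ 𝓦, Cfsg.IsConjugacyFunctor p W) (𝓕 : Set (Subgroup G))
    (h𝓕 : ∀ U ∈ 𝓕, U ≤ (S : Subgroup G))
    (hgood : ∀ T : Subgroup G, T ≤ (S : Subgroup G) → ∃ U ∈ 𝓕,
      (∃ g : G, T.map (MulAut.conj g).toMonoidHom = U) ∧ Good p (S : Subgroup G) U)
    (hloc : ∀ U ∈ 𝓕, U ≠ ⊥ → ((S : Subgroup G) ⊓ normalizer (U : Set G)) ⊓
      ⁅normalizer (U : Set G), normalizer (U : Set G)⁆ ≤
        tgtIn 𝓦 (normalizer (U : Set G)) ((S : Subgroup G) ⊓ normalizer (U : Set G))) :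
    (S : Subgroup G) ⊓ commutator G ≤ tgtIn 𝓦 ⊤ (S : Subgroup G) := by
  set D := tgtIn 𝓦 ⊤ (S : Subgroup G)
  have key : ∀ n : ℕ, ∀ U ∈ 𝓕, U ≠ ⊥ →
      Nat.card (S : Subgroup G) - Nat.card ((S : Subgroup G) ⊓ normalizer (U : Set G) : Subgroup G) = n →
      ((S : Subgroup G) ⊓ normalizer (U : Set G)) ⊓ ⁅normalizer (U : Set G), normalizer (U : Set G)⁆ ≤ D := by
    intro n
    induction n using Nat.strong_induction_on with
    | _ n ih =>
    intro U hU hU1 hn
    set N := normalizer (U : Set G)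
    set R := (S : Subgroup G) ⊓ N
    refine (hloc U hU hU1).trans ?_
    by_cases hRS : R = (S : Subgroup G)
    · show tgtIn 𝓦 N R ≤ D
      rw [hRS]; exact tgtIn_le_top
    have hRp : IsPGroup p R := S.2.to_le inf_le_left
    have hlt : R < (S : Subgroup G) := lt_of_le_of_ne inf_le_left hRS
    refine iSup₂_le fun W hW => ?_
    obtain ⟨hWR, hWne, hWc⟩ := h𝓦 W hW R hRp
    set Z := W R
    have hZS : Z ≤ (S : Subgroup G) := hWR.trans inf_le_left
    obtain ⟨V, hV, ⟨a, ha⟩, hVg⟩ := hgood Z hZS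
    obtain ⟨h, hhV, hhN⟩ := exists_conj_normalizer S ha hVg
    set B := (S : Subgroup G) ⊓ normalizer (Z : Set G)
    have hNR : (S : Subgroup G) ⊓ normalizer (R : Set G) ≤ B := fun u hu => ⟨hu.1, by
      show u ∈ normalizer (Z : Set G)
      rw [← Cfsg.Lib.Transfer.map_conj_eq_self_iff, ← hWc u,
        Cfsg.Lib.Transfer.map_conj_eq_self_iff.mpr hu.2]⟩
    have hRB : Nat.card R < Nat.card B :=
      lt_of_lt_of_le (card_lt_normalizer S.2 hlt) (card_le_of_le hNR)
    have hUR : U ≤ R := le_inf (h𝓕 U hU) le_normalizer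
    have hV1 : V ≠ ⊥ := fun h0 => hWne (fun hR0 => hU1 (le_bot_iff.mp (hR0 ▸ hUR))) (by
      rw [← hhV] at h0
      exact (map_eq_bot_iff_of_injective _ (MulAut.conj h).injective).mp h0)
    have hBimg : img h (B : Set G) ⊆ (S : Subgroup G) := by
      rw [img_eq_map]; exact hhN.trans inf_le_left
    have hlift : ∀ U' ∈ 𝓕, U' ≠ ⊥ →
        Nat.card B ≤ Nat.card ((S : Subgroup G) ⊓ normalizer (U' : Set G) : Subgroup G) →
        ((S : Subgroup G) ⊓ normalizer (U' : Set G)) ⊓ ⁅normalizer (U' : Set G), normalizer (U' : Set G)⁆ ≤ D := by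
      intro U' hU' hU'1 hle
      refine ih _ ?_ U' hU' hU'1 rfl
      have := card_le_of_le (inf_le_left : (S : Subgroup G) ⊓ normalizer (U' : Set G) ≤ S)
      omega
    have hdiff := diff_mem S h𝓕
      (chain_of_good S 𝓕 h𝓕 hgood (B : Set G) h (fun z hz => hz.1) hBimg) hlift
    rintro z ⟨hzR, hz'⟩
    have hzB : z ∈ B := hNR ⟨hzR.1, le_normalizer hzR⟩
    have hy : h * z * h⁻¹ ∈ ((S : Subgroup G) ⊓ normalizer (V : Set G)) ⊓
        ⁅normalizer (V : Set G), normalizer (V : Set G)⁆ := by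
      refine ⟨hhN ⟨z, hzB, rfl⟩, ?_⟩
      have h1 : h * z * h⁻¹ ∈ (⁅normalizer (Z : Set G), normalizer (Z : Set G)⁆).map (MulAut.conj h).toMonoidHom :=
        ⟨z, commutator_mono inf_le_right inf_le_right hz', rfl⟩
      rwa [map_commutator, show (normalizer (Z : Set G)).map (MulAut.conj h).toMonoidHom = normalizer (V : Set G) by
        rw [← hhV]; exact (Cfsg.Lib.Coprime.normalizer_conjMap h Z).symm] at h1
    have hyD := hlift V hV hV1 (by
      rw [← Cfsg.Lib.Transfer.card_map_conj B h]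
      exact card_le_of_le hhN) hy
    have h2 := mul_mem hyD (inv_mem (hdiff z hzB))
    rwa [show h * z * h⁻¹ * (z⁻¹ * (h * z * h⁻¹))⁻¹ = z by group] at h2
  have hP : ∀ U ∈ 𝓕, U ≠ ⊥ →
      ((S : Subgroup G) ⊓ normalizer (U : Set G)) ⊓ ⁅normalizer (U : Set G), normalizer (U : Set G)⁆ ≤ D :=
    fun U hU hU1 => key _ U hU hU1 rfl
  have hfoc : focalSubgroup (S : Subgroup G) ≤ D := by
    rw [focalSubgroup_def, closure_le]
    rintro _ ⟨hmem, x, hx, u, rfl⟩
    have h1 : u * x⁻¹ * u⁻¹ ∈ (S : Subgroup G) := by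
      simpa [commutatorElement_def, mul_assoc] using mul_mem (inv_mem hx) hmem
    have hA : (zpowers x⁻¹ : Subgroup G) ≤ (S : Subgroup G) := zpowers_le.mpr (inv_mem hx)
    have hc := chain_of_good S 𝓕 h𝓕 hgood (zpowers x⁻¹ : Subgroup G) u hA (by
      rw [img_eq_map, MonoidHom.map_zpowers]
      exact zpowers_le.mpr h1)
    have h2 := diff_mem S h𝓕 hc (fun U hU hU1 _ => hP U hU hU1) x⁻¹ (mem_zpowers _)
    show ⁅x, u⁆ ∈ D
    rwa [show ⁅x, u⁆ = x⁻¹⁻¹ * (u * x⁻¹ * u⁻¹) by simp only [commutatorElement_def]; group]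
  rw [inf_comm, Cfsg.Lib.Transfer.commutator_inf_eq_focal]
  · exact hfoc
  · obtain ⟨j, hj⟩ := IsPGroup.iff_card.mp S.2
    refine Nat.Coprime.coprime_dvd_right ?_ (((Fact.out : p.Prime).coprime_iff_not_dvd.mpr S.not_dvd_index).symm.pow_right j)
    rw [← hj]
    exact index_dvd_card _

end Cfsg.Lib.Control
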