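import Cfsg.Agent.Components.Control.CentralPair
import Cfsg.Agent.Components.Control.Transfer

/-!
Local-to-global control of transfer by a functor together with a central functor.
-/

set_option linter.style.haveILetI false
set_option linter.unusedSectionVars false

namespace Cfsg.Lib.Control

open Subgroup
open scoped commutatorElement

variable {G : Type*} [Group G] [Finite G] {p : ℕ} [Fact p.Prime] {W V : Subgroup G → Subgroup G}

/-- Frattini: an element of `N(U)` agrees on `U` with one normalizing a centric overgroup -/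
theorem exists_centric (S : Sylow p G) {U : Subgroup G} (hUS : U ≤ (S : Subgroup G))
    (hgood : Good p (S : Subgroup G) U) {y : G} (hyU : y ∈ normalizer (U : Set G)) :
    ∃ (T' : Subgroup G) (b : G), U ≤ T' ∧ T' ≤ (S : Subgroup G) ∧ Cen (S : Subgroup G) T' ∧
      b ∈ normalizer (T' : Set G) ∧ b ∈ normalizer (U : Set G) ∧ ∀ u ∈ U, b * u * b⁻¹ = y * u * y⁻¹ := by
  set N := normalizer (U : Set G) with hN
  let P₀ : Sylow p N := ((S.2.to_le (inf_le_left : (S : Subgroup G) ⊓ N ≤ S)).comap_subtype (K := N)).toSylow hgood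
  haveI hCn : ((centralizer (U : Set G)).subgroupOf N).Normal :=
    normal_subgroupOf_of_le_normalizer (Cfsg.Lib.Components.normalizer_le_normalizer_centralizer' U)
  set C := (centralizer (U : Set G)).subgroupOf N
  obtain ⟨QC, hQC⟩ := Cfsg.Lib.Kieler.exists_sylow_of_subnormal P₀ hCn.isSubnormal
  set C₀ := (S : Subgroup G) ⊓ centralizer (U : Set G) with hC₀
  have hQC' : (QC : Subgroup C).map C.subtype = C₀.subgroupOf N := by
    rw [hQC, subgroupOf_map_subtype]
    ext z
    constructor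
    · rintro ⟨hzS, hzC⟩
      exact ⟨(mem_subgroupOf.1 hzS).1, hzC⟩
    · rintro ⟨hzS, hzC⟩
      exact ⟨mem_subgroupOf.2 ⟨hzS, z.2⟩, hzC⟩
  have hfr := Sylow.normalizer_sup_eq_top (N := C) QC
  rw [hQC'] at hfr
  obtain ⟨b, hb, c, hc, hbc⟩ := mem_sup_of_normal_right.1 (hfr.ge (mem_top (⟨y, hyU⟩ : N)))
  have hbc' : (b : G) * (c : G) = y := congrArg Subtype.val hbc
  have hcC : (c : G) ∈ centralizer (U : Set G) := hc
  have hagree : ∀ u ∈ U, (b : G) * u * (b : G)⁻¹ = y * u * y⁻¹ := fun u hu => by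
    rw [← hbc']
    have : (c : G) * u = u * c := (mem_centralizer_iff.1 hcC u hu).symm
    calc (b : G) * u * (b : G)⁻¹ = b * (u * c) * (c : G)⁻¹ * (b : G)⁻¹ := by group
      _ = b * c * u * ((b : G) * c)⁻¹ := by rw [← this]; group
  have hC₀N : C₀ ≤ N := inf_le_right.trans (centralizer_le_normalizer _)
  have hbC₀ : (b : G) ∈ normalizer (C₀ : Set G) := by
    rw [mem_normalizer_iff]
    intro z
    constructor
    · intro hz
      exact ((mem_normalizer_iff.1 hb ⟨z, hC₀N hz⟩).1 (mem_subgroupOf.2 hz) : _)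
    · intro hz
      have hzN : z ∈ N := by
        have := mul_mem (mul_mem (inv_mem b.2) (hC₀N hz)) b.2
        simpa [mul_assoc] using this
      exact mem_subgroupOf.1 ((mem_normalizer_iff.1 hb ⟨z, hzN⟩).2 (mem_subgroupOf.2 hz))
  set T' := U ⊔ C₀ with hT'
  have hbT' : (b : G) ∈ normalizer (T' : Set G) := by
    rw [← Cfsg.Lib.Transfer.map_conj_eq_self_iff, hT', Subgroup.map_sup,
      Cfsg.Lib.Transfer.map_conj_eq_self_iff.2 b.2, Cfsg.Lib.Transfer.map_conj_eq_self_iff.2 hbC₀]
  have hT'S : T' ≤ (S : Subgroup G) := sup_le hUS inf_le_left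
  have hcen : Cen (S : Subgroup G) T' := by
    intro k hk z hz
    have hzk : k⁻¹ * z * k ∈ centralizer (T' : Set G) := mem_centralizer_iff.2 fun w hw => by
      have := mem_centralizer_iff.1 hz.2 _ (hk ⟨w, hw, rfl⟩)
      calc w * (k⁻¹ * z * k) = k⁻¹ * ((k * w * k⁻¹) * z) * k := by group
        _ = k⁻¹ * (z * (k * w * k⁻¹)) * k := by
          rw [show (k * w * k⁻¹) * z = z * (k * w * k⁻¹) from this]
        _ = k⁻¹ * z * k * w := by group
    refine ⟨k⁻¹ * z * k, ?_, by simp [mul_assoc]⟩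
    refine (le_sup_right : C₀ ≤ T') ?_
    set m := k⁻¹ * z * k
    have hmC : m ∈ centralizer (U : Set G) := centralizer_le (le_sup_left : U ≤ T') hzk
    have hmN : m ∈ N := centralizer_le_normalizer _ hmC
    let mC : C := ⟨⟨m, hmN⟩, hmC⟩
    have hmp : IsPGroup p (zpowers mC) := by
      obtain ⟨j, hj⟩ := S.2 ⟨z, hz.1⟩
      refine IsPGroup.of_card_dvd_pow (n := j) ?_
      rw [Nat.card_zpowers]
      refine orderOf_dvd_of_pow_eq_one (Subtype.ext (Subtype.ext ?_))
      show m ^ p ^ j = 1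
      have hz' : z ^ p ^ j = 1 := congrArg Subtype.val hj
      rw [show m = k⁻¹ * z * k⁻¹⁻¹ by rw [inv_inv], conj_pow, hz']
      group
    have hnorm : zpowers mC ≤ normalizer ((QC : Subgroup C) : Set C) := by
      rw [zpowers_le]
      refine centralizer_le_normalizer _ (mem_centralizer_iff.2 fun q hq => ?_)
      have hq' : ((q : N) : G) ∈ C₀ := by
        have : (q : N) ∈ C₀.subgroupOf N := hQC' ▸ mem_map_of_mem C.subtype hq
        exact this
      exact Subtype.ext (Subtype.ext (mem_centralizer_iff.1 hzk _ ((le_sup_right : C₀ ≤ T') hq')))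
    have hmQ : mC ∈ (QC : Subgroup C) :=
      (QC.3 (hmp.to_sup_of_normal_right' QC.2 hnorm) le_sup_right).le
        ((le_sup_left : zpowers mC ≤ _) (mem_zpowers mC))
    have : (mC : N) ∈ C₀.subgroupOf N := hQC' ▸ mem_map_of_mem C.subtype hmQ
    exact this
  exact ⟨T', (b : G), le_sup_left, hT'S, hcen, hbT', b.2, hagree⟩

/-- the target subgroup -/
def pairTgt (W V : Subgroup G → Subgroup G) (H R : Subgroup G) : Subgroup G :=
  (R ⊓ ⁅H ⊓ normalizer ((W R : Subgroup G) : Set G), H ⊓ normalizer ((W R : Subgroup G) : Set G)⁆) ⊔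
    (R ⊓ ⁅H ⊓ centralizer ((V R : Subgroup G) : Set G), H ⊓ centralizer ((V R : Subgroup G) : Set G)⁆)

theorem pairTransfer (S : Sylow p G) (hW : Cfsg.IsConjugacyFunctor p W)
    (hWZ : ∀ H : Subgroup G, IsPGroup p H → H ⊓ centralizer (H : Set G) ≤ W H)
    (hVmono : ∀ R : Subgroup G, R ≤ (S : Subgroup G) → (S : Subgroup G) ⊓ centralizer ((S : Subgroup G) : Set G) ≤ R →
      V (S : Subgroup G) ≤ V R)
    (hloc : ∀ U : Subgroup G, U ≤ (S : Subgroup G) → (S : Subgroup G) ⊓ centralizer ((S : Subgroup G) : Set G) ≤ U →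
      Good p (S : Subgroup G) U →
      ((S : Subgroup G) ⊓ normalizer (U : Set G)) ⊓ ⁅normalizer (U : Set G), normalizer (U : Set G)⁆ ≤
        pairTgt W V (normalizer (U : Set G)) ((S : Subgroup G) ⊓ normalizer (U : Set G))) :
    (S : Subgroup G) ⊓ commutator G ≤ pairTgt W V ⊤ (S : Subgroup G) := by
  set ZS := (S : Subgroup G) ⊓ centralizer ((S : Subgroup G) : Set G)
  set D := pairTgt W V ⊤ (S : Subgroup G) with hD
  have hnW : ∀ x : G, ∀ R : Subgroup G, IsPGroup p R → x ∈ normalizer (R : Set G) →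
      x ∈ normalizer ((W R : Subgroup G) : Set G) := fun x R hR hx => by
    rw [← Cfsg.Lib.Transfer.map_conj_eq_self_iff] at hx ⊢
    rw [← (hW R hR).2.2, hx]
  suffices key : ∀ n : ℕ,
      (∀ (T : Subgroup G) (g : G), T ≤ (S : Subgroup G) → T.map (MulAut.conj g).toMonoidHom ≤ (S : Subgroup G) →
        Nat.card (S : Subgroup G) - Nat.card T = n → ∀ a ∈ T, a⁻¹ * (g * a * g⁻¹) ∈ D) ∧
      (∀ U : Subgroup G, U ≤ (S : Subgroup G) → ZS ≤ U → Good p (S : Subgroup G) U →
        Cen (S : Subgroup G) ((S : Subgroup G) ⊓ normalizer (U : Set G)) →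
        Nat.card (S : Subgroup G) - Nat.card ((S : Subgroup G) ⊓ normalizer (U : Set G) : Subgroup G) = n →
        ((S : Subgroup G) ⊓ normalizer (U : Set G)) ⊓ ⁅normalizer (U : Set G), normalizer (U : Set G)⁆ ≤ D) by
    have hfoc : focalSubgroup (S : Subgroup G) ≤ D := by
      rw [focalSubgroup_def, closure_le]
      rintro _ ⟨hmem, x, hx, u, rfl⟩
      have h1 : u * x⁻¹ * u⁻¹ ∈ (S : Subgroup G) := by
        simpa [commutatorElement_def, mul_assoc] using mul_mem (inv_mem hx) hmem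
      have h2 := (key _).1 (zpowers x⁻¹) u (zpowers_le.mpr (inv_mem hx))
        (by rw [MonoidHom.map_zpowers]; exact zpowers_le.mpr h1) rfl x⁻¹ (mem_zpowers _)
      show ⁅x, u⁆ ∈ D
      rwa [show ⁅x, u⁆ = x⁻¹⁻¹ * (u * x⁻¹ * u⁻¹) by simp only [commutatorElement_def]; group]
    rw [inf_comm, Cfsg.Lib.Transfer.commutator_inf_eq_focal]
    · exact hfoc
    · obtain ⟨j, hj⟩ := IsPGroup.iff_card.mp S.2
      refine Nat.Coprime.coprime_dvd_right ?_ (((Fact.out : p.Prime).coprime_iff_not_dvd.mpr S.not_dvd_index).symm.pow_right j)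
      rw [← hj]
      exact index_dvd_card _
  intro n
  induction n using Nat.strong_induction_on with
  | _ n ih =>
  have via : ∀ U₁ : Subgroup G, U₁ ≤ (S : Subgroup G) →
      Cen (S : Subgroup G) ((S : Subgroup G) ⊓ normalizer (U₁ : Set G)) →
      (∀ h : G, ((S : Subgroup G) ⊓ normalizer (U₁ : Set G)).map (MulAut.conj h).toMonoidHom ≤ (S : Subgroup G) →
        ZS ≤ U₁.map (MulAut.conj h).toMonoidHom) →
      Nat.card (S : Subgroup G) - Nat.card ((S : Subgroup G) ⊓ normalizer (U₁ : Set G) : Subgroup G) < n →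
      ∀ z ∈ (S : Subgroup G) ⊓ normalizer (U₁ : Set G), z ∈ ⁅normalizer (U₁ : Set G), normalizer (U₁ : Set G)⁆ →
      z ∈ D := by
    intro U₁ hU₁ hcen hZ hlt z hz hz'
    obtain ⟨a, ha, hgood⟩ := exists_good S hU₁
    obtain ⟨h, hh, hhN⟩ := exists_conj_normalizer S rfl hgood
    set U' := U₁.map (MulAut.conj a).toMonoidHom
    have hsub := hhN.trans inf_le_left
    have hdiff := (ih _ hlt).1 _ h inf_le_left hsub rfl z hz
    have hZ' : ZS ≤ U' := hh ▸ hZ h hsub
    have hc' : Cen (S : Subgroup G) ((S : Subgroup G) ⊓ normalizer (U' : Set G)) := (hcen.map h).mono hhN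
    have hy : h * z * h⁻¹ ∈ ((S : Subgroup G) ⊓ normalizer (U' : Set G)) ⊓
        ⁅normalizer (U' : Set G), normalizer (U' : Set G)⁆ := by
      refine ⟨hhN ⟨z, hz, rfl⟩, ?_⟩
      have h1 : h * z * h⁻¹ ∈ (⁅normalizer (U₁ : Set G), normalizer (U₁ : Set G)⁆).map (MulAut.conj h).toMonoidHom :=
        ⟨z, hz', rfl⟩
      rwa [map_commutator, show (normalizer (U₁ : Set G)).map (MulAut.conj h).toMonoidHom = normalizer (U' : Set G) by
        rw [← hh]; exact (Cfsg.Lib.Coprime.normalizer_conjMap h U₁).symm] at h1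
    have hyD : h * z * h⁻¹ ∈ D := by
      refine (ih _ ?_).2 U' ha hZ' hgood hc' rfl hy
      have h1 := card_le_of_le hhN
      rw [Cfsg.Lib.Transfer.card_map_conj] at h1
      omega
    have h2 := mul_mem hyD (inv_mem hdiff)
    rwa [show h * z * h⁻¹ * (z⁻¹ * (h * z * h⁻¹))⁻¹ = z by group] at h2
  have htop : ∀ {z : G}, z ∈ (S : Subgroup G) →
      z ∈ ⁅normalizer ((W (S : Subgroup G) : Subgroup G) : Set G), normalizer ((W (S : Subgroup G) : Subgroup G) : Set G)⁆ →
      z ∈ D := fun {z} hz hz' => mem_sup_left ⟨hz, by rw [top_inf_eq]; exact hz'⟩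
  refine ⟨?_, ?_⟩
  · intro T g hTS hT2S hn t ht
    set T2 := T.map (MulAut.conj g).toMonoidHom with hT2
    have hcard : Nat.card T2 = Nat.card T := Cfsg.Lib.Transfer.card_map_conj _ g
    by_cases hT : T = (S : Subgroup G)
    · have hg : g ∈ normalizer ((S : Subgroup G) : Set G) := by
        rw [← Cfsg.Lib.Transfer.map_conj_eq_self_iff, ← hT]
        exact eq_of_le_of_card_ge (hT2S.trans hT.ge) hcard.ge
      refine htop (mul_mem (inv_mem (hTS ht)) (hT2S ⟨t, ht, rfl⟩)) ?_
      rw [show t⁻¹ * (g * t * g⁻¹) = ⁅t⁻¹, g⁆ by simp only [commutatorElement_def]; group]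
      exact commutator_mem_commutator (hnW _ _ S.2 (le_normalizer (inv_mem (hTS ht)))) (hnW _ _ S.2 hg)
    have hlt : T < (S : Subgroup G) := lt_of_le_of_ne hTS hT
    have hlt2 : T2 < (S : Subgroup G) := lt_of_le_of_ne hT2S fun e => hT
      (eq_of_le_of_card_ge hTS (by rw [← hcard, e]))
    have grow : ∀ X : Subgroup G, X < (S : Subgroup G) → Nat.card X = Nat.card T →
        Nat.card (S : Subgroup G) - Nat.card ((S : Subgroup G) ⊓ normalizer (X : Set G) : Subgroup G) < n ∧
        X ≤ (S : Subgroup G) ⊓ normalizer (X : Set G) := fun X hX hXc => by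
      have h1 := card_lt_normalizer S.2 hX
      have h2 : Nat.card ((S : Subgroup G) ⊓ normalizer (X : Set G) : Subgroup G) ≤
        Nat.card (S : Subgroup G) := card_le_of_le inf_le_left
      exact ⟨by omega, le_inf hX.le le_normalizer⟩
    obtain ⟨a, hUS, hgood⟩ := exists_good S hTS
    set U := T.map (MulAut.conj a).toMonoidHom with hU
    obtain ⟨h₁, hh₁, hh₁N⟩ := exists_conj_normalizer S (U := U) rfl hgood
    obtain ⟨h₂, hh₂, hh₂N⟩ := exists_conj_normalizer S (T := T2) (U := U) (a := a * g⁻¹)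
      (by rw [hT2, conj_comp, inv_mul_cancel_right]) hgood
    have ht2 : g * t * g⁻¹ ∈ T2 := ⟨t, ht, rfl⟩
    have d₁ := (ih _ (grow T hlt rfl).1).1 _ h₁ inf_le_left (hh₁N.trans inf_le_left) rfl t ((grow T hlt rfl).2 ht)
    have d₂ := (ih _ (grow T2 hlt2 hcard).1).1 _ h₂ inf_le_left (hh₂N.trans inf_le_left) rfl _
      ((grow T2 hlt2 hcard).2 ht2)
    set y := h₂ * g * h₁⁻¹ with hy
    have hyU : y ∈ normalizer (U : Set G) := by
      rw [← Cfsg.Lib.Transfer.map_conj_eq_self_iff]
      conv_rhs => rw [← hh₂, hT2, conj_comp]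
      conv_lhs => rw [← hh₁, conj_comp]
      congr 3
      rw [hy]; group
    obtain ⟨T', b, hUT', hT'S, hcen, hbT', hbU, hagree⟩ := exists_centric S hUS hgood hyU
    set u := h₁ * t * h₁⁻¹ with hu
    have huU : u ∈ U := hh₁ ▸ (⟨t, ht, rfl⟩ : u ∈ T.map (MulAut.conj h₁).toMonoidHom)
    have huS : u⁻¹ * (b * u * b⁻¹) ∈ (S : Subgroup G) :=
      hUS (mul_mem (inv_mem huU) ((mem_normalizer_iff.1 hbU u).1 huU))
    have hcomm : u⁻¹ * (b * u * b⁻¹) = ⁅u⁻¹, b⁆ := by simp only [commutatorElement_def]; group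
    have dmid : u⁻¹ * (b * u * b⁻¹) ∈ D := by
      by_cases hT'e : T' = (S : Subgroup G)
      · refine htop huS ?_
        rw [hcomm]
        exact commutator_mem_commutator (hnW _ _ S.2 (le_normalizer (inv_mem (hUS huU))))
          (hnW _ _ S.2 (hT'e ▸ hbT'))
      have h1 := card_lt_normalizer S.2 (lt_of_le_of_ne hT'S hT'e)
      have h2 : Nat.card U ≤ Nat.card T' := card_le_of_le hUT'
      have h3 : Nat.card ((S : Subgroup G) ⊓ normalizer (T' : Set G) : Subgroup G) ≤
          Nat.card (S : Subgroup G) := card_le_of_le inf_le_left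
      have hUc : Nat.card U = Nat.card T := Cfsg.Lib.Transfer.card_map_conj _ a
      refine via T' hT'S (hcen.mono (le_inf hT'S le_normalizer))
        (fun h hh => hcen h ((map_mono (le_inf hT'S le_normalizer)).trans hh)) (by omega) _
        ⟨huS, le_normalizer (hUT' (mul_mem (inv_mem huU) ((mem_normalizer_iff.1 hbU u).1 huU)))⟩ ?_
      rw [hcomm]
      exact commutator_mem_commutator (le_normalizer (hUT' (inv_mem huU))) hbT'
    rw [hagree u huU] at dmid
    have e : y * u * y⁻¹ = h₂ * (g * t * g⁻¹) * h₂⁻¹ := by rw [hy, hu]; group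
    rw [e] at dmid
    have h4 := mul_mem (mul_mem d₁ dmid) (inv_mem d₂)
    rwa [show t⁻¹ * (h₁ * t * h₁⁻¹) * (u⁻¹ * (h₂ * (g * t * g⁻¹) * h₂⁻¹)) *
      ((g * t * g⁻¹)⁻¹ * (h₂ * (g * t * g⁻¹) * h₂⁻¹))⁻¹ = t⁻¹ * (g * t * g⁻¹) by rw [hu]; group] at h4
  · intro U hUS hZU hgood hcenR hn
    set R := (S : Subgroup G) ⊓ normalizer (U : Set G) with hR
    have hRS : R ≤ (S : Subgroup G) := inf_le_left
    have hRp : IsPGroup p R := S.2.to_le hRS
    have hZR : ZS ≤ R := hZU.trans (le_inf hUS le_normalizer)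
    refine (hloc U hUS hZU hgood).trans (sup_le ?_ ?_)
    · rintro z ⟨hzR, hz'⟩
      by_cases hRe : R = (S : Subgroup G)
      · refine htop (hRS hzR) ?_
        rw [← congrArg W hRe]
        exact commutator_mono inf_le_right inf_le_right hz'
      have hU₁R : W R ≤ R := (hW R hRp).1
      have hle : (S : Subgroup G) ⊓ normalizer (R : Set G) ≤
          (S : Subgroup G) ⊓ normalizer ((W R : Subgroup G) : Set G) :=
        le_inf inf_le_left fun u hu => hnW u R hRp hu.2
      have hR1 : R ≤ (S : Subgroup G) ⊓ normalizer ((W R : Subgroup G) : Set G) :=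
        (le_inf hRS le_normalizer).trans hle
      have h1 := (card_lt_normalizer S.2 (lt_of_le_of_ne hRS hRe)).trans_le (card_le_of_le hle)
      have h3 : Nat.card ((S : Subgroup G) ⊓ normalizer ((W R : Subgroup G) : Set G) : Subgroup G) ≤
          Nat.card (S : Subgroup G) := card_le_of_le inf_le_left
      refine via (W R) (hU₁R.trans hRS) (hcenR.mono hR1) ?_ (by omega) z (hR1 hzR)
        (commutator_mono inf_le_right inf_le_right hz')
      intro h hh
      have hRh := (map_mono hR1).trans hh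
      rw [← (hW R hRp).2.2 h]
      refine le_trans (le_inf (hcenR h hRh) fun z hz => ?_) (hWZ _ (hRp.map _))
      exact mem_centralizer_iff.2 fun w hw => mem_centralizer_iff.1 hz.2 w (hRh hw)
    · rintro z ⟨hzR, hz'⟩
      refine mem_sup_right ⟨hRS hzR, ?_⟩
      have hc : normalizer (U : Set G) ⊓ centralizer ((V R : Subgroup G) : Set G) ≤
          ⊤ ⊓ centralizer ((V (S : Subgroup G) : Subgroup G) : Set G) :=
        le_inf le_top (inf_le_right.trans (centralizer_le (hVmono R hRS hZR)))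
      exact commutator_mono hc hc hz'

end Cfsg.Lib.Control
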