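import Cfsg.Agent.Components.ZJ.Functor
import Cfsg.Prelude.Def_ConjugacyFunctors

/-!
Chains of conjugations and Alperin's conjugation families.
-/

set_option linter.style.haveILetI false
set_option linter.unusedSectionVars false

namespace Cfsg.Lib.Control

open Subgroup

variable {G : Type*} [Group G]

/-- the image of a set under conjugation -/
def img (c : G) (A : Set G) : Set G := (fun a => c * a * c⁻¹) '' A

theorem img_img (c d : G) (A : Set G) : img d (img c A) = img (d * c) A := by
  rw [img, img, img, Set.image_image]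
  refine Set.image_congr fun a _ => ?_
  group

theorem img_one (A : Set G) : img 1 A = A := by simp [img]

theorem img_mono {c : G} {A B : Set G} (h : A ⊆ B) : img c A ⊆ img c B := Set.image_mono h

theorem img_congr {c d : G} {A : Set G} (h : ∀ a ∈ A, c * a * c⁻¹ = d * a * d⁻¹) : img c A = img d A :=
  Set.image_congr h

theorem img_subset_iff {c : G} {A : Set G} {T : Subgroup G} :
    img c A ⊆ T ↔ ∀ a ∈ A, c * a * c⁻¹ ∈ T := Set.image_subset_iff

theorem img_eq_map (c : G) (T : Subgroup G) :
    img c (T : Set G) = ((T.map (MulAut.conj c).toMonoidHom : Subgroup G) : Set G) := rfl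

theorem closure_img (c : G) (A : Set G) :
    closure (img c A) = (closure A).map (MulAut.conj c).toMonoidHom := by
  rw [MonoidHom.map_closure]; rfl

/-- a chain of conjugations, each step allowed on the current image -/
inductive Chain (Step : G → Set G → Prop) (A : Set G) : G → Prop
  | one : Chain Step A 1
  | mul {x c : G} : Chain Step A c → Step x (img c A) → Chain Step A (x * c)

variable {Step Step' : G → Set G → Prop}

theorem Chain.single {x : G} {A : Set G} (h : Step x A) : Chain Step A x := by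
  have := Chain.mul (Chain.one (Step := Step) (A := A)) (by rwa [img_one] : Step x (img 1 A))
  rwa [mul_one] at this

theorem Chain.trans {A : Set G} {c d : G} (h : Chain Step A c) (h' : Chain Step (img c A) d) :
    Chain Step A (d * c) := by
  induction h' with
  | one => rwa [one_mul]
  | mul _ hs ih =>
    rw [mul_assoc]
    refine Chain.mul ih ?_
    rwa [← img_img]

theorem Chain.mono_step {A : Set G} {c : G} (hm : ∀ x B, Step x B → Step' x B) (h : Chain Step A c) :
    Chain Step' A c := by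
  induction h with
  | one => exact Chain.one
  | mul _ hs ih => exact Chain.mul ih (hm _ _ hs)

theorem Chain.mono {A B : Set G} {c : G} (hm : ∀ x B B', B ⊆ B' → Step x B' → Step x B) (hAB : A ⊆ B)
    (h : Chain Step B c) : Chain Step A c := by
  induction h with
  | one => exact Chain.one
  | mul _ hs ih => exact Chain.mul ih (hm _ _ _ (img_mono hAB) hs)

theorem Chain.inv {A : Set G} {c : G} (hs : ∀ x B, Step x B → Step x⁻¹ (img x B)) (h : Chain Step A c) :
    Chain Step (img c A) c⁻¹ := by
  induction h with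
  | one => rw [inv_one]; exact Chain.one
  | @mul x c _ hst ih =>
    rw [mul_inv_rev, ← img_img]
    refine (Chain.single (hs _ _ hst)).trans ?_
    rwa [img_img, inv_mul_cancel, img_one]

/-- a step inside the normalizer of a member of `𝓕` -/
def FamStep (𝓕 : Set (Subgroup G)) (x : G) (B : Set G) : Prop :=
  ∃ T ∈ 𝓕, B ⊆ T ∧ x ∈ normalizer (T : Set G)

theorem famStep_mono (𝓕 : Set (Subgroup G)) : ∀ x B B', B ⊆ B' → FamStep 𝓕 x B' → FamStep 𝓕 x B :=
  fun _ _ _ h ⟨T, hT, hB, hx⟩ => ⟨T, hT, h.trans hB, hx⟩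

theorem famStep_inv (𝓕 : Set (Subgroup G)) : ∀ x B, FamStep 𝓕 x B → FamStep 𝓕 x⁻¹ (img x B) :=
  fun x _ ⟨T, hT, hB, hx⟩ => ⟨T, hT,
    img_subset_iff.mpr fun a ha => (mem_normalizer_iff.mp hx a).mp (hB ha), inv_mem hx⟩

variable [Finite G] {p : ℕ} [Fact p.Prime]

/-- `N_S(U)` is a Sylow subgroup of `N(U)` -/
def Good (p : ℕ) (S U : Subgroup G) : Prop :=
  ¬ p ∣ (S ⊓ normalizer (U : Set G)).relIndex (normalizer (U : Set G))

theorem good_self (S : Sylow p G) : Good p (S : Subgroup G) (S : Subgroup G) := by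
  show ¬ p ∣ _
  rw [inf_relIndex_right]
  exact fun h => S.not_dvd_index (h.trans (relIndex_dvd_index_of_le le_normalizer))

/-- move `N_S(T)` into `N_S(U)` -/
theorem exists_conj_normalizer (S : Sylow p G) {T U : Subgroup G} {a : G}
    (hU : T.map (MulAut.conj a).toMonoidHom = U) (hg : Good p (S : Subgroup G) U) :
    ∃ h : G, T.map (MulAut.conj h).toMonoidHom = U ∧
      ((S : Subgroup G) ⊓ normalizer (T : Set G)).map (MulAut.conj h).toMonoidHom ≤
        (S : Subgroup G) ⊓ normalizer (U : Set G) := by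
  set N := normalizer (U : Set G)
  set R := ((S : Subgroup G) ⊓ normalizer (T : Set G)).map (MulAut.conj a).toMonoidHom
  have hRN : R ≤ N := by
    show R ≤ normalizer (U : Set G)
    rw [← hU, show normalizer ((T.map (MulAut.conj a).toMonoidHom : Subgroup G) : Set G) =
      (normalizer (T : Set G)).map (MulAut.conj a).toMonoidHom from Cfsg.Lib.Coprime.normalizer_conjMap a T]
    exact map_mono inf_le_right
  have hRp : IsPGroup p R := (S.2.to_le inf_le_left).map _
  obtain ⟨P₁, hP₁⟩ := (hRp.comap_subtype (K := N)).exists_le_sylow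
  let P₀ : Sylow p N := ((S.2.to_le (inf_le_left : (S : Subgroup G) ⊓ N ≤ S)).comap_subtype (K := N)).toSylow hg
  obtain ⟨n, hn⟩ := MulAction.exists_smul_eq N P₁ P₀
  refine ⟨(n : G) * a, ?_, ?_⟩
  · have hn' : U.map (MulAut.conj (n : G)).toMonoidHom = U :=
      Cfsg.Lib.Transfer.map_conj_eq_self_iff.mpr n.2
    conv_rhs => rw [← hn', ← hU, map_map]
    congr 1
    ext x; simp
  · rintro _ ⟨x, hx, rfl⟩
    have hx' : a * x * a⁻¹ ∈ R := ⟨x, hx, rfl⟩
    have h5 : n * ⟨a * x * a⁻¹, hRN hx'⟩ * n⁻¹ ∈ (P₀ : Subgroup N) := by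
      rw [← hn]
      exact Cfsg.Lib.Transfer.mem_conj_sylow_iff.mpr (hP₁ hx')
    have h6 : (n : G) * (a * x * a⁻¹) * (n : G)⁻¹ ∈ (S : Subgroup G) ⊓ N := mem_subgroupOf.mp h5
    convert h6 using 1
    simp [mul_assoc]

/-- **Alperin**: a set with a good conjugate of every subgroup of `S` is a conjugation family -/
theorem chain_of_good (S : Sylow p G) (𝓕 : Set (Subgroup G)) (h𝓕 : ∀ U ∈ 𝓕, U ≤ (S : Subgroup G))
    (h : ∀ T : Subgroup G, T ≤ (S : Subgroup G) → ∃ U ∈ 𝓕,
      (∃ g : G, T.map (MulAut.conj g).toMonoidHom = U) ∧ Good p (S : Subgroup G) U) :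
    ∀ (A : Set G) (g : G), A ⊆ (S : Subgroup G) → img g A ⊆ (S : Subgroup G) →
      Chain (FamStep 𝓕) A g := by
  suffices key : ∀ (R : Subgroup G) (g : G), R ≤ (S : Subgroup G) →
      R.map (MulAut.conj g).toMonoidHom ≤ (S : Subgroup G) → Chain (FamStep 𝓕) (R : Set G) g by
    intro A g hA hgA
    refine (key (closure A) g ((closure_le _).mpr hA) ?_).mono (famStep_mono 𝓕) subset_closure
    rw [← closure_img]
    exact (closure_le _).mpr hgA
  intro R
  induction hn : Nat.card (S : Subgroup G) - Nat.card R using Nat.strong_induction_on generalizing R with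
  | _ n ih =>
  intro g hR hgR
  obtain ⟨U, hU, ⟨a, ha⟩, hUg⟩ := h R hR
  by_cases hRS : R = (S : Subgroup G)
  · subst hRS
    have hUS : U = (S : Subgroup G) :=
      eq_of_le_of_card_ge (h𝓕 U hU) (by rw [← ha, Cfsg.Lib.Transfer.card_map_conj])
    exact Chain.single ⟨U, hU, by rw [hUS], by
      rw [hUS, ← Cfsg.Lib.Transfer.map_conj_eq_self_iff]
      exact eq_of_le_of_card_ge hgR (Cfsg.Lib.Transfer.card_map_conj _ g).ge⟩
  have hlt : R < (S : Subgroup G) := lt_of_le_of_ne hR hRS
  set R' := R.map (MulAut.conj g).toMonoidHom with hR'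
  have hcard : Nat.card R' = Nat.card R := Cfsg.Lib.Transfer.card_map_conj _ g
  have hlt' : R' < (S : Subgroup G) := lt_of_le_of_ne hgR fun he => hRS
    (eq_of_le_of_card_ge hR (by rw [← hcard, he]))
  have ha' : R'.map (MulAut.conj (a * g⁻¹)).toMonoidHom = U := by
    rw [← ha, hR', map_map]
    congr 1
    ext x; simp [mul_assoc]
  obtain ⟨h₁, hh₁, hh₁N⟩ := exists_conj_normalizer S ha hUg
  obtain ⟨h₂, hh₂, hh₂N⟩ := exists_conj_normalizer S ha' hUg
  have big : ∀ (T : Subgroup G) (x : G), T < (S : Subgroup G) → Nat.card T = Nat.card R →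
      ((S : Subgroup G) ⊓ normalizer (T : Set G)).map (MulAut.conj x).toMonoidHom ≤ (S : Subgroup G) →
      Chain (FamStep 𝓕) (T : Set G) x := by
    intro T x hT hTc hx
    have hg := Cfsg.Lib.Fusion.lt_inf_normalizer S.2 hT le_rfl
    have h1 : Nat.card T < Nat.card ((S : Subgroup G) ⊓ normalizer (T : Set G) : Subgroup G) :=
      lt_of_le_of_ne (card_le_of_le hg.le) fun he => hg.ne (eq_of_le_of_card_ge hg.le he.ge)
    have h2 : Nat.card ((S : Subgroup G) ⊓ normalizer (T : Set G) : Subgroup G) ≤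
        Nat.card (S : Subgroup G) := card_le_of_le inf_le_left
    exact (ih _ (by omega) _ rfl x inf_le_left hx).mono (famStep_mono 𝓕) (fun y hy => hg.le hy)
  have c₁ := big R h₁ hlt rfl (hh₁N.trans inf_le_left)
  have c₂ := big R' h₂ hlt' hcard (hh₂N.trans inf_le_left)
  have c₃ := c₂.inv (famStep_inv 𝓕)
  have hmid : h₂ * g * h₁⁻¹ ∈ normalizer (U : Set G) := by
    rw [← Cfsg.Lib.Transfer.map_conj_eq_self_iff]
    conv_rhs => rw [← hh₂, hR', map_map]
    conv_lhs => rw [← hh₁, map_map]
    congr 1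
    ext x; simp [mul_assoc]
  have hstep : FamStep 𝓕 (h₂ * g * h₁⁻¹) (img h₁ (R : Set G)) :=
    ⟨U, hU, by rw [img_eq_map, hh₁], hmid⟩
  have := c₁.trans (Chain.single hstep)
  have h3 := this.trans (d := h₂⁻¹) (by
    have e : img (h₂ * g * h₁⁻¹ * h₁) (R : Set G) = img h₂ (R' : Set G) := by
      rw [hR', ← img_eq_map, img_img]
      simp [mul_assoc]
    rw [e]; exact c₃)
  simpa [mul_assoc] using h3

end Cfsg.Lib.Control
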