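import Cfsg.Agent.Components.Control.Chain

/-!
Local-to-global control of strong fusion by a set of conjugacy functors.
-/

set_option linter.style.haveILetI false
set_option linter.unusedSectionVars false

namespace Cfsg.Lib.Control

open Subgroup

variable {G : Type*} [Group G]

/-- a step in `H` normalizing some `W R`, inside `R` -/
def StepIn (𝓦 : Set (Subgroup G → Subgroup G)) (H R : Subgroup G) (x : G) (B : Set G) : Prop :=
  (∃ W ∈ 𝓦, x ∈ H ⊓ normalizer ((W R : Subgroup G) : Set G)) ∧ B ⊆ R ∧ img x B ⊆ R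

theorem stepIn_mono (𝓦 : Set (Subgroup G → Subgroup G)) (H R : Subgroup G) :
    ∀ x B B', B ⊆ B' → StepIn 𝓦 H R x B' → StepIn 𝓦 H R x B :=
  fun _ _ _ h ⟨hx, hB, hxB⟩ => ⟨hx, h.trans hB, (img_mono h).trans hxB⟩

theorem stepIn_inv (𝓦 : Set (Subgroup G → Subgroup G)) (H R : Subgroup G) :
    ∀ x B, StepIn 𝓦 H R x B → StepIn 𝓦 H R x⁻¹ (img x B) :=
  fun x B ⟨⟨W, hW, hx⟩, hB, hxB⟩ => ⟨⟨W, hW, inv_mem hx⟩, hxB, by
    rwa [img_img, inv_mul_cancel, img_one]⟩

/-- `g` agrees on `A` with a chain -/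
def Agree (𝓦 : Set (Subgroup G → Subgroup G)) (H R : Subgroup G) (A : Set G) (g : G) : Prop :=
  ∃ c, Chain (StepIn 𝓦 H R) A c ∧ ∀ a ∈ A, c * a * c⁻¹ = g * a * g⁻¹

variable {𝓦 : Set (Subgroup G → Subgroup G)} {H R : Subgroup G}

theorem Agree.trans {A : Set G} {g g' : G} (h : Agree 𝓦 H R A g) (h' : Agree 𝓦 H R (img g A) g') :
    Agree 𝓦 H R A (g' * g) := by
  obtain ⟨c, hc, hcg⟩ := h
  obtain ⟨d, hd, hdg⟩ := h'
  rw [← img_congr hcg] at hd
  refine ⟨d * c, hc.trans hd, fun a ha => ?_⟩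
  calc d * c * a * (d * c)⁻¹ = d * (c * a * c⁻¹) * d⁻¹ := by group
    _ = d * (g * a * g⁻¹) * d⁻¹ := by rw [hcg a ha]
    _ = g' * (g * a * g⁻¹) * g'⁻¹ := hdg _ ⟨a, ha, rfl⟩
    _ = _ := by group

theorem Agree.inv {A : Set G} {g : G} (h : Agree 𝓦 H R A g) : Agree 𝓦 H R (img g A) g⁻¹ := by
  obtain ⟨c, hc, hcg⟩ := h
  refine ⟨c⁻¹, by rw [← img_congr hcg]; exact hc.inv (stepIn_inv 𝓦 H R), ?_⟩
  rintro _ ⟨a, ha, rfl⟩
  show c⁻¹ * (g * a * g⁻¹) * c⁻¹⁻¹ = g⁻¹ * (g * a * g⁻¹) * g⁻¹⁻¹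
  rw [← hcg a ha]
  conv_rhs => rw [hcg a ha]
  group

theorem Agree.mono {A B : Set G} {g : G} (hAB : A ⊆ B) (h : Agree 𝓦 H R B g) : Agree 𝓦 H R A g :=
  let ⟨c, hc, hcg⟩ := h
  ⟨c, hc.mono (stepIn_mono 𝓦 H R) hAB, fun a ha => hcg a (hAB ha)⟩

theorem Agree.congr {A : Set G} {g g' : G} (e : ∀ a ∈ A, g * a * g⁻¹ = g' * a * g'⁻¹)
    (h : Agree 𝓦 H R A g) : Agree 𝓦 H R A g' :=
  let ⟨c, hc, hcg⟩ := h
  ⟨c, hc, fun a ha => (hcg a ha).trans (e a ha)⟩

theorem Agree.of_trivial {A : Set G} (g : G) (hA : ∀ a ∈ A, a = 1) : Agree 𝓦 H R A g :=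
  ⟨1, Chain.one, fun a ha => by rw [hA a ha]; group⟩

variable [Finite G] {p : ℕ} [Fact p.Prime]

theorem card_lt_normalizer {P T : Subgroup G} (hP : IsPGroup p P) (hT : T < P) :
    Nat.card T < Nat.card (P ⊓ normalizer (T : Set G) : Subgroup G) :=
  have hg := Cfsg.Lib.Fusion.lt_inf_normalizer hP hT le_rfl
  lt_of_le_of_ne (card_le_of_le hg.le) fun he => hg.ne (eq_of_le_of_card_ge hg.le he.ge)

/-- **local to global**, control of strong fusion -/
theorem agree_of_local (S : Sylow p G) (𝓦 : Set (Subgroup G → Subgroup G)) (𝓕 : Set (Subgroup G))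
    (h𝓕 : ∀ U ∈ 𝓕, U ≤ (S : Subgroup G))
    (hgood : ∀ T : Subgroup G, T ≤ (S : Subgroup G) → ∃ U ∈ 𝓕,
      (∃ g : G, T.map (MulAut.conj g).toMonoidHom = U) ∧ Good p (S : Subgroup G) U)
    (hfg : ∀ U ∈ 𝓕, Good p (S : Subgroup G) U)
    (hWle : ∀ W ∈ 𝓦, ∀ R, R ≤ (S : Subgroup G) → W R ≤ R)
    (hWeq : ∀ W ∈ 𝓦, ∀ R, ∀ g : G, R ≤ (S : Subgroup G) →
      R.map (MulAut.conj g).toMonoidHom ≤ (S : Subgroup G) →
      W (R.map (MulAut.conj g).toMonoidHom) = (W R).map (MulAut.conj g).toMonoidHom)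
    (hWne : ∀ W ∈ 𝓦, ∀ U, U ≤ (S : Subgroup G) → U ≠ ⊥ →
      W ((S : Subgroup G) ⊓ normalizer (U : Set G)) ≠ ⊥)
    (hloc : ∀ U ∈ 𝓕, U ≠ ⊥ → ∀ (A : Set G) (y : G), y ∈ normalizer (U : Set G) →
      A ⊆ ((S : Subgroup G) ⊓ normalizer (U : Set G) : Subgroup G) →
      img y A ⊆ ((S : Subgroup G) ⊓ normalizer (U : Set G) : Subgroup G) →
      Agree 𝓦 (normalizer (U : Set G)) ((S : Subgroup G) ⊓ normalizer (U : Set G)) A y) :
    ∀ (A : Set G) (g : G), A ⊆ (S : Subgroup G) → img g A ⊆ (S : Subgroup G) →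
      Agree 𝓦 ⊤ (S : Subgroup G) A g := by
  -- from the local statement above `s` to sets of size above `s`
  have hQ : ∀ s : ℕ, (∀ U ∈ 𝓕, U ≠ ⊥ →
      s < Nat.card ((S : Subgroup G) ⊓ normalizer (U : Set G) : Subgroup G) →
      ∀ (A : Set G) (y : G), y ∈ normalizer (U : Set G) →
        A ⊆ ((S : Subgroup G) ⊓ normalizer (U : Set G) : Subgroup G) →
        img y A ⊆ ((S : Subgroup G) ⊓ normalizer (U : Set G) : Subgroup G) →
        Agree 𝓦 ⊤ (S : Subgroup G) A y) →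
      ∀ (A : Set G) (g : G), A ⊆ (S : Subgroup G) → img g A ⊆ (S : Subgroup G) →
        s < Nat.card (closure A) → Agree 𝓦 ⊤ (S : Subgroup G) A g := by
    intro s hP A g hA hgA hs
    have hc := chain_of_good S 𝓕 h𝓕 hgood A g hA hgA
    clear hgA
    induction hc with
    | one => exact ⟨1, Chain.one, fun _ _ => rfl⟩
    | @mul x c _ hst ih =>
      refine ih.trans ?_
      obtain ⟨T, hT, hBT, hx⟩ := hst
      by_cases hT1 : T = ⊥
      · exact Agree.of_trivial x fun a ha => by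
          have := hBT ha
          rw [hT1] at this
          exact this
      have hTle : T ≤ (S : Subgroup G) ⊓ normalizer (T : Set G) := le_inf (h𝓕 T hT) le_normalizer
      refine hP T hT hT1 ?_ _ x hx (fun a ha => hTle (hBT ha)) ?_
      · have h1 : Nat.card (closure A) ≤ Nat.card T := by
          rw [← Cfsg.Lib.Transfer.card_map_conj (closure A) c, ← closure_img]
          exact card_le_of_le ((closure_le _).mpr hBT)
        have := card_le_of_le hTle
        omega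
      · exact img_subset_iff.mpr fun a ha => hTle ((mem_normalizer_iff.mp hx a).mp (hBT ha))
  have hP : ∀ r : ℕ, ∀ U ∈ 𝓕, U ≠ ⊥ →
      Nat.card (S : Subgroup G) - Nat.card ((S : Subgroup G) ⊓ normalizer (U : Set G) : Subgroup G) ≤ r →
      ∀ (A : Set G) (y : G), y ∈ normalizer (U : Set G) →
        A ⊆ ((S : Subgroup G) ⊓ normalizer (U : Set G) : Subgroup G) →
        img y A ⊆ ((S : Subgroup G) ⊓ normalizer (U : Set G) : Subgroup G) →
        Agree 𝓦 ⊤ (S : Subgroup G) A y := by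
    intro r
    induction r using Nat.strong_induction_on with
    | _ r ih =>
    intro U hU hU1 hr A y hy hA hyA
    set R := (S : Subgroup G) ⊓ normalizer (U : Set G) with hR
    have hRS : R ≤ (S : Subgroup G) := inf_le_left
    obtain ⟨c, hc, hcy⟩ := hloc U hU hU1 A y hy hA hyA
    refine Agree.congr hcy ?_
    clear hcy hyA
    induction hc with
    | one => exact ⟨1, Chain.one, fun _ _ => rfl⟩
    | @mul x c _ hst ihc =>
      refine ihc.trans ?_
      obtain ⟨⟨W, hW, hxU, hxW⟩, hB, hxB⟩ := hst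
      set B := img c A
      by_cases hRe : R = (S : Subgroup G)
      · have hxW' : x ∈ normalizer ((W (S : Subgroup G) : Subgroup G) : Set G) := by
          rw [← congrArg W hRe]; exact hxW
        exact ⟨x, Chain.single ⟨⟨W, hW, mem_top x, hxW'⟩, hB.trans hRS, hxB.trans hRS⟩, fun _ _ => rfl⟩
      set U₁ := W R
      set N₁ := (S : Subgroup G) ⊓ normalizer (U₁ : Set G) with hN₁
      have hU₁S : U₁ ≤ (S : Subgroup G) := (hWle W hW R hRS).trans hRS
      have hNR : (S : Subgroup G) ⊓ normalizer (R : Set G) ≤ N₁ := by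
        refine le_inf inf_le_left fun u hu => ?_
        show u ∈ normalizer ((W R : Subgroup G) : Set G)
        have e := Cfsg.Lib.Transfer.map_conj_eq_self_iff.mpr hu.2
        rw [← Cfsg.Lib.Transfer.map_conj_eq_self_iff, ← hWeq W hW R u hRS (e.le.trans hRS), e]
      have hbig : Nat.card R < Nat.card N₁ :=
        (card_lt_normalizer S.2 (lt_of_le_of_ne hRS hRe)).trans_le (card_le_of_le hNR)
      have hN₁S : Nat.card N₁ ≤ Nat.card (S : Subgroup G) := card_le_of_le inf_le_left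
      have hP' : ∀ U' ∈ 𝓕, U' ≠ ⊥ →
          Nat.card R < Nat.card ((S : Subgroup G) ⊓ normalizer (U' : Set G) : Subgroup G) →
          ∀ (A : Set G) (y : G), y ∈ normalizer (U' : Set G) →
            A ⊆ ((S : Subgroup G) ⊓ normalizer (U' : Set G) : Subgroup G) →
            img y A ⊆ ((S : Subgroup G) ⊓ normalizer (U' : Set G) : Subgroup G) →
            Agree 𝓦 ⊤ (S : Subgroup G) A y := by
        intro U' hU' hU'1 hlt
        have : Nat.card ((S : Subgroup G) ⊓ normalizer (U' : Set G) : Subgroup G) ≤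
            Nat.card (S : Subgroup G) := card_le_of_le inf_le_left
        exact ih _ (by omega) U' hU' hU'1 le_rfl
      obtain ⟨U₁', hU₁', ⟨a, ha⟩, hg'⟩ := hgood U₁ hU₁S
      obtain ⟨h, hh, hhN⟩ := exists_conj_normalizer S ha hg'
      have hhS : img h (N₁ : Set G) ⊆ (S : Subgroup G) := by
        rw [img_eq_map]; exact fun z hz => (hhN hz).1
      have hctl : Agree 𝓦 ⊤ (S : Subgroup G) (N₁ : Set G) h :=
        hQ _ hP' (N₁ : Set G) h (inf_le_left : N₁ ≤ (S : Subgroup G)) hhS (by rw [closure_eq]; exact hbig)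
      have hBN : B ⊆ (N₁ : Set G) := fun z hz => hNR ⟨hRS (hB hz), le_normalizer (hB hz)⟩
      have hxBN : img x B ⊆ (N₁ : Set G) := fun z hz => hNR ⟨hRS (hxB hz), le_normalizer (hxB hz)⟩
      have hh' : ∀ z ∈ N₁, h * z * h⁻¹ ∈ (S : Subgroup G) ⊓ normalizer (U₁' : Set G) :=
        fun z hz => hhN ⟨z, hz, rfl⟩
      have hx' : h * x * h⁻¹ ∈ normalizer (U₁' : Set G) := by
        rw [← hh, show normalizer ((U₁.map (MulAut.conj h).toMonoidHom : Subgroup G) : Set G) =
          (normalizer (U₁ : Set G)).map (MulAut.conj h).toMonoidHom from Cfsg.Lib.Coprime.normalizer_conjMap h U₁]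
        exact ⟨x, hxW, rfl⟩
      have hne' : U₁' ≠ ⊥ := by
        rw [← hh]
        exact fun he => hWne W hW U (h𝓕 U hU) hU1
          ((map_eq_bot_iff_of_injective _ (MulAut.conj h).injective).mp he)
      have hbig' : Nat.card R < Nat.card ((S : Subgroup G) ⊓ normalizer (U₁' : Set G) : Subgroup G) :=
        hbig.trans_le (by rw [← Cfsg.Lib.Transfer.card_map_conj N₁ h]; exact card_le_of_le hhN)
      have e : img (h * x * h⁻¹) (img h B) = img h (img x B) := by
        rw [img_img h (h * x * h⁻¹) B, img_img x h B, inv_mul_cancel_right]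
      have h2 : Agree 𝓦 ⊤ (S : Subgroup G) (img h B) (h * x * h⁻¹) :=
        hP' U₁' hU₁' hne' hbig' _ _ hx' (img_subset_iff.mpr fun z hz => hh' z (hBN hz))
          (by rw [e]; exact img_subset_iff.mpr fun z hz => hh' z (hxBN hz))
      have h4 := ((hctl.mono hBN).trans h2).trans (g' := h⁻¹) (by
        rw [← img_img, e]
        exact (hctl.mono hxBN).inv)
      simpa [mul_assoc] using h4
  intro A g hA hgA
  by_cases h1 : closure A = ⊥
  · refine Agree.of_trivial g fun a ha => ?_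
    have := subset_closure ha
    rw [h1] at this
    exact this
  · refine hQ 1 (fun U hU hU1 _ => hP _ U hU hU1 le_rfl) A g hA hgA ?_
    exact (one_lt_card_iff_ne_bot _).mpr h1

end Cfsg.Lib.Control
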