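import Cfsg.Agent.Components.Functor.Degree
import Cfsg.Agent.Components.Control.Transfer
import Cfsg.Agent.Thompson.PComplement
import Mathlib.GroupTheory.Transfer

/-!
The transfer restricted to a normal subgroup, and elements of small degree.
-/

set_option linter.style.haveILetI false
set_option linter.unusedSectionVars false

namespace Cfsg.Lib.Control

open Subgroup
open scoped commutatorElement

universe u

variable {G : Type u} [Group G] [Finite G] {p : ℕ} [Fact p.Prime]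

/-- the product over the cosets of an overgroup vanishes on `G'` -/
theorem prod_conj_eq_one (S : Sylow p G) {D : Subgroup G}
    [hn : (D.subgroupOf (S : Subgroup G)).Normal]
    {A : Type u} [CommGroup A] (π : (S : Subgroup G) →* A)
    (hA : ∀ a : A, ∃ k : ℕ, a ^ p ^ k = 1)
    {M U : Subgroup G} (hSM : (S : Subgroup G) ≤ M) (hU : U.Normal) (hUS : U ≤ (S : Subgroup G))
    (F : G → G ⧸ M → A)
    (hF : ∀ (u : G) (hu : u ∈ U) (t : G), F u (QuotientGroup.mk t) =
      π ⟨t⁻¹ * u * t, hUS (by simpa using hU.conj_mem u hu t⁻¹)⟩)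
    [Fintype (G ⧸ M)] {u : G} (hu : u ∈ U) (huG : u ∈ commutator G) : ∏ y : G ⧸ M, F u y = 1 := by
  classical
  haveI := hU
  let τ : G →* A := MonoidHom.transfer π
  have h1 : τ u = 1 := Abelianization.commutator_subset_ker τ huG
  letI : Fintype (G ⧸ (S : Subgroup G)) := (S : Subgroup G).fintypeQuotientOfFiniteIndex
  have hfix : ∀ q : G ⧸ (S : Subgroup G), u⁻¹ • q = q := by
    intro q
    obtain ⟨t, rfl⟩ := QuotientGroup.mk_surjective q
    refine QuotientGroup.eq.mpr ?_
    have := hUS (hU.conj_mem u hu t⁻¹)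
    simpa [mul_assoc] using this
  let T : (S : Subgroup G).LeftTransversal := default
  have h2 : τ u = ∏ q : G ⧸ (S : Subgroup G),
      F u (Quotient.map' id (fun a b h => QuotientGroup.leftRel_apply.mpr
        (hSM (QuotientGroup.leftRel_apply.mp h))) q) := by
    show MonoidHom.transfer π u = _
    rw [MonoidHom.transfer_def π T u, leftTransversals.diff]
    refine Finset.prod_congr rfl fun q _ => ?_
    have hq : (QuotientGroup.mk ((T.2.leftQuotientEquiv q : G)) : G ⧸ (S : Subgroup G)) = q :=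
      T.2.leftQuotientEquiv.symm_apply_apply q
    conv_rhs => rw [← hq]
    show _ = F u (QuotientGroup.mk ((T.2.leftQuotientEquiv q : G)))
    rw [hF u hu]
    congr 1
    refine Subtype.ext ?_
    show (T.2.leftQuotientEquiv q : G)⁻¹ * ((u • T).2.leftQuotientEquiv q : G) =
      (T.2.leftQuotientEquiv q : G)⁻¹ * u * (T.2.leftQuotientEquiv q : G)
    rw [smul_apply_eq_smul_apply_inv_smul, hfix, smul_eq_mul, mul_assoc]
  have h3 : τ u = (∏ y : G ⧸ M, F u y) ^ ((S : Subgroup G).relIndex M) := by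
    rw [h2]
    letI : Fintype (M ⧸ (S : Subgroup G).subgroupOf M) := Fintype.ofFinite _
    rw [← Equiv.prod_comp (Subgroup.quotientEquivProdOfLE hSM).symm, Fintype.prod_prod_type]
    rw [← Finset.prod_pow]
    refine Finset.prod_congr rfl fun y _ => ?_
    rw [relIndex, index_eq_card, Nat.card_eq_fintype_card, ← Finset.card_univ, ← Finset.prod_const]
    refine Finset.prod_congr rfl fun z _ => ?_
    congr 1
    exact congrArg Prod.fst ((Subgroup.quotientEquivProdOfLE hSM).apply_symm_apply (y, z))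
  rw [h1] at h3
  obtain ⟨k, hk⟩ := hA (∏ y : G ⧸ M, F u y)
  refine orderOf_eq_one_iff.mp (Nat.eq_one_of_dvd_coprimes ?_ (orderOf_dvd_of_pow_eq_one hk)
    (orderOf_dvd_of_pow_eq_one h3.symm))
  exact ((Fact.out : p.Prime).coprime_iff_not_dvd.mpr fun hd =>
    S.not_dvd_index (hd.trans (relIndex_dvd_index_of_le hSM))).pow_left k

/-- the abelian target and its evaluation -/
theorem exists_target (S : Sylow p G) {D : Subgroup G}
    (hD : ⁅(S : Subgroup G), (S : Subgroup G)⁆ ≤ D) :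
    ∃ (A : Type u) (_ : CommGroup A) (π : (S : Subgroup G) →* A),
      (D.subgroupOf (S : Subgroup G)).Normal ∧ (∀ a : A, ∃ k : ℕ, a ^ p ^ k = 1) ∧
      ∀ x : (S : Subgroup G), π x = 1 ↔ (x : G) ∈ D := by
  have hle : commutator (S : Subgroup G) ≤ D.subgroupOf (S : Subgroup G) := by
    rw [subgroupOf, ← map_le_iff_le_comap, map_subtype_commutator]
    exact hD
  haveI hn : (D.subgroupOf (S : Subgroup G)).Normal := ⟨fun x hx g => by
    rw [show g * x * g⁻¹ = ⁅g, x⁆ * x by simp [commutatorElement_def]]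
    exact mul_mem (hle (by rw [_root_.commutator_def]; exact commutator_mem_commutator (mem_top g) (mem_top x))) hx⟩
  letI : CommGroup ((S : Subgroup G) ⧸ D.subgroupOf (S : Subgroup G)) :=
    { (inferInstance : Group ((S : Subgroup G) ⧸ D.subgroupOf (S : Subgroup G))) with
      mul_comm := fun a b => by
        obtain ⟨a, rfl⟩ := QuotientGroup.mk'_surjective _ a
        obtain ⟨b, rfl⟩ := QuotientGroup.mk'_surjective _ b
        rw [← commutatorElement_eq_one_iff_mul_comm, ← map_commutatorElement]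
        exact (QuotientGroup.eq_one_iff _).mpr (hle (by
          rw [_root_.commutator_def]; exact commutator_mem_commutator (mem_top a) (mem_top b))) }
  refine ⟨_, this, QuotientGroup.mk' _, hn, fun a => ?_, fun x => QuotientGroup.eq_one_iff x⟩
  exact (S.2.to_quotient _) a

/-- a normal subgroup whose fusion is trivial modulo `D` meets `G'` inside `D` -/
theorem inf_commutator_le_of_central (S : Sylow p G) {D U : Subgroup G} [hU : U.Normal]
    (hD : ⁅(S : Subgroup G), (S : Subgroup G)⁆ ≤ D) (hUS : U ≤ (S : Subgroup G))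
    (hfix : ∀ u ∈ U, ∀ g : G, ⁅u, g⁆ ∈ D) : U ⊓ commutator G ≤ D := by
  classical
  obtain ⟨A, _, π, hn, hA, hker⟩ := exists_target S hD
  rintro u ⟨hu, huG⟩
  letI : Fintype (G ⧸ (⊤ : Subgroup G)) := Fintype.ofFinite _
  let F : G → G ⧸ (⊤ : Subgroup G) → A := fun v _ =>
    if hv : v ∈ U then π ⟨v, hUS hv⟩ else 1
  have hF : ∀ (v : G) (hv : v ∈ U) (t : G), F v (QuotientGroup.mk t) =
      π ⟨t⁻¹ * v * t, hUS (by simpa using hU.conj_mem v hv t⁻¹)⟩ := by
    intro v hv t
    simp only [F, dif_pos hv]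
    rw [← mul_inv_eq_one, ← map_inv, ← map_mul, hker]
    show v * (t⁻¹ * v * t)⁻¹ ∈ D
    have := hfix v hv t⁻¹
    simpa [commutatorElement_def, mul_assoc] using this
  have h := prod_conj_eq_one (D := D) S π hA (le_top : (S : Subgroup G) ≤ ⊤) hU hUS F hF hu huG
  haveI : Subsingleton (G ⧸ (⊤ : Subgroup G)) := QuotientGroup.subsingleton_quotient_top
  rw [Finset.prod_eq_single (QuotientGroup.mk (1 : G)) (fun b _ hb => absurd (Subsingleton.elim _ _) hb)
    (fun hb => absurd (Finset.mem_univ _) hb)] at h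
  simp only [F] at h
  rw [dif_pos (show u ∈ U from hu)] at h
  exact (hker _).mp h

open Classical in
/-- sums over an orbit vanish when they vanish on blocks of length `p` -/
theorem prod_range_blocks {A : Type*} [CommMonoid A] (a : ℕ → A) {p : ℕ}
    (h : ∀ j, ∏ i ∈ Finset.range p, a (j * p + i) = 1) (m : ℕ) :
    ∏ i ∈ Finset.range (m * p), a i = 1 := by
  induction m with
  | zero => simp
  | succ m ih => rw [Nat.succ_mul, Finset.prod_range_add, ih, one_mul]; exact h m

/-- `∏_{i<p} g^{-i} u g^i ∈ V` for small degree on a chief factor -/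
theorem norm_mem {U V : Subgroup G} (hUV : Cfsg.IsChiefFactor U V) (hU : IsPGroup p U) {g : G}
    (hg : Cfsg.iterCommutator U (zpowers g) (p - 1) ≤ V) {A : Type u} [CommGroup A] (φ : U →* A)
    (hφ : ∀ x : U, (x : G) ∈ V → φ x = 1) (u : U) (hn : U.Normal) :
    ∏ i ∈ Finset.range p,
      φ ⟨(g⁻¹) ^ i * (u : G) * ((g⁻¹) ^ i)⁻¹, hn.conj_mem _ u.2 _⟩ = 1 := by
  classical
  obtain ⟨hlt, -, hVn, hmin⟩ := hUV
  haveI := hn
  haveI := hVn
  set π := QuotientGroup.mk' V with hπdef
  have hπ : Function.Surjective π := QuotientGroup.mk'_surjective V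
  haveI hWn : (U.map π).Normal := Subgroup.Normal.map inferInstance π hπ
  set W := U.map π
  have hWp : IsPGroup p W := hU.map π
  have hWmin : ∀ N : Subgroup (G ⧸ V), N.Normal → N ≤ W → N = ⊥ ∨ N = W := by
    intro N hN hNW
    rcases hmin (N.comap π) (hN.comap π) ((QuotientGroup.ker_mk' V).ge.trans (ker_le_comap π N)) (by
      refine (comap_mono hNW).trans ?_
      rw [comap_map_eq, hπdef, QuotientGroup.ker_mk', sup_eq_left.mpr hlt.le]) with h | h
    · left; rw [← map_comap_eq_self_of_surjective hπ N, h, hπdef, QuotientGroup.map_mk'_self]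
    · right; rw [← map_comap_eq_self_of_surjective hπ N, h]
  have hWne : W ≠ ⊥ := fun h => by
    rw [Subgroup.map_eq_bot_iff, hπdef, QuotientGroup.ker_mk'] at h
    exact hlt.not_ge h
  have hWc : W ⊓ centralizer (W : Set (G ⧸ V)) = W :=
    (hWmin _ inferInstance inf_le_left).resolve_left (Cfsg.Lib.Thompson.center_ne_bot hWp hWne)
  have hcomm : ∀ x ∈ W, ∀ y ∈ W, x * y = y * x := fun x hx y hy =>
    mem_centralizer_iff.mp (hWc.ge hy).2 x hx
  let E : Subgroup (G ⧸ V) :=
    { carrier := {x | x ∈ W ∧ x ^ p = 1}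
      one_mem' := ⟨one_mem _, one_pow p⟩
      mul_mem' := fun {x y} hx hy => ⟨mul_mem hx.1 hy.1, by
        rw [(show Commute x y from hcomm x hx.1 y hy.1).mul_pow, hx.2, hy.2, one_mul]⟩
      inv_mem' := fun {x} hx => ⟨inv_mem hx.1, by rw [inv_pow, hx.2, inv_one]⟩ }
  haveI : E.Normal := ⟨fun x hx y =>
    ⟨hWn.conj_mem x hx.1 y, by rw [conj_pow, hx.2, mul_one, mul_inv_cancel]⟩⟩
  have hexp : ∀ x ∈ W, x ^ p = 1 := by
    haveI : Nontrivial W := (nontrivial_iff_ne_bot W).mpr hWne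
    obtain ⟨x, hx⟩ := exists_prime_orderOf_dvd_card' (G := W) p
      ((IsPGroup.card_eq_or_dvd hWp).resolve_left (Finite.one_lt_card).ne')
    have hxE : (x : G ⧸ V) ∈ E := ⟨x.2, by rw [← SubmonoidClass.coe_pow, ← hx, pow_orderOf_eq_one]; rfl⟩
    have hE : E = W := (hWmin E inferInstance fun y hy => hy.1).resolve_left fun h => by
      rw [h, mem_bot] at hxE
      rw [show x = 1 from Subtype.ext hxE, orderOf_one] at hx
      exact (Fact.out : p.Prime).ne_one hx.symm
    exact fun y hy => (hE.ge hy).2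
  letI : CommGroup W := { (inferInstance : Group W) with mul_comm := fun a b => Subtype.ext (hcomm _ a.2 _ b.2) }
  let c : W →* W := (MulAut.conjNormal (H := W) (π g⁻¹)).toMonoidHom
  let C : AddMonoid.End (Additive W) := MonoidHom.toAdditive c
  have hp0 : (p : AddMonoid.End (Additive W)) = 0 := AddMonoidHom.ext fun v => by
    exact (AddMonoid.End.natCast_apply p v).trans
      (congrArg Additive.ofMul (Subtype.ext (hexp _ v.toMul.2) : v.toMul ^ p = 1))
  have hcW : ∀ x ∈ W, π g⁻¹ * x * (π g⁻¹)⁻¹ ∈ W := fun x hx => hWn.conj_mem x hx _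
  have hiter : ∀ (i : ℕ) (w : W), ((((C - 1) ^ i) (Additive.ofMul w)).toMul : G ⧸ V) =
      (fun y => π g⁻¹ * y * (π g⁻¹)⁻¹ * y⁻¹)^[i] (w : G ⧸ V) := by
    intro i
    induction i with
    | zero => intro w; rfl
    | succ i ihi =>
      intro w
      rw [pow_succ', Function.iterate_succ_apply', ← ihi w]
      set v := ((C - 1) ^ i) (Additive.ofMul w)
      show (((C - 1) v).toMul : G ⧸ V) = π g⁻¹ * (v.toMul : G ⧸ V) * (π g⁻¹)⁻¹ * (v.toMul : G ⧸ V)⁻¹
      show ((C v).toMul : G ⧸ V) / (v.toMul : G ⧸ V) = _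
      rw [div_eq_mul_inv, show ((C v).toMul : G ⧸ V) = π g⁻¹ * (v.toMul : G ⧸ V) * (π g⁻¹)⁻¹ from
        MulAut.conjNormal_apply _ v.toMul]
  have hdeg : (C - 1) ^ (p - 1) = 0 := AddMonoidHom.ext fun v => by
    have h := Cfsg.Lib.Degree.conj_sub_one_pow_mem (W := W) (g := π g⁻¹) hcW (p - 1) _ v.toMul.2
    rw [← hiter (p - 1) v.toMul, map_inv, zpowers_inv, ← MonoidHom.map_zpowers,
      ← Cfsg.Lib.Degree.map_iterCommutator] at h
    have h' := map_mono (f := π) hg h
    rw [hπdef, QuotientGroup.map_mk'_self, mem_bot] at h'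
    exact congrArg Additive.ofMul (Subtype.ext h' : (((C - 1) ^ (p - 1)) v).toMul = (1 : W))
  have hsum : ∑ i ∈ Finset.range p, C ^ i = 0 := by rw [Cfsg.Lib.Degree.sum_pow_eq hp0]; exact hdeg
  have hC : ∀ (i : ℕ) (w : W), ((C ^ i) (Additive.ofMul w)).toMul =
      MulAut.conjNormal ((π g⁻¹) ^ i) w := by
    intro i
    induction i with
    | zero => intro w; simp
    | succ i ihi =>
      intro w
      rw [pow_succ' C]
      show c (((C ^ i) (Additive.ofMul w)).toMul) = _
      rw [ihi, pow_succ' (π g⁻¹), map_mul]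
      rfl
  let ψ : U →* W := π.subgroupMap U
  have hsum' : ∏ i ∈ Finset.range p, ψ ⟨(g⁻¹) ^ i * (u : G) * ((g⁻¹) ^ i)⁻¹, hn.conj_mem _ u.2 _⟩ = 1 := by
    have h1 : (∑ i ∈ Finset.range p, C ^ i) (Additive.ofMul (ψ u)) = 0 := by rw [hsum]; rfl
    replace h1 : ∑ i ∈ Finset.range p, (C ^ i) (Additive.ofMul (ψ u)) = 0 :=
      (map_sum (AddMonoidHom.eval (Additive.ofMul (ψ u))) (fun i => C ^ i) (Finset.range p)).symm.trans h1
    have h2 := congrArg Additive.toMul h1
    rw [toMul_sum, toMul_zero] at h2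
    rw [← h2]
    refine Finset.prod_congr rfl fun i _ => ?_
    rw [hC]
    refine Subtype.ext ?_
    rw [MulAut.conjNormal_apply]
    show π ((g⁻¹) ^ i * (u : G) * ((g⁻¹) ^ i)⁻¹) = (π g⁻¹) ^ i * π u * ((π g⁻¹) ^ i)⁻¹
    rw [map_mul, map_mul, map_inv π (g⁻¹ ^ i), map_pow]
  -- transfer the identity through `φ`
  let l := (List.range p).map fun i => (⟨(g⁻¹) ^ i * (u : G) * ((g⁻¹) ^ i)⁻¹, hn.conj_mem _ u.2 _⟩ : U)
  have h3 : ψ l.prod = 1 := by
    rw [map_list_prod, List.map_map]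
    exact hsum'
  have h4 : φ l.prod = 1 := hφ _ ((QuotientGroup.eq_one_iff _).mp (congrArg Subtype.val h3))
  rw [map_list_prod, List.map_map] at h4
  exact h4

open Classical in
/-- the normalizer of the subgroup generated by a conjugation invariant set of `S` -/
theorem le_normalizer_closure (S : Sylow p G) {C : Set G} (hC : ∀ h g : G, g ∈ C → h * g * h⁻¹ ∈ C) :
    (S : Subgroup G) ≤ normalizer ((closure {g | g ∈ (S : Subgroup G) ∧ g ∈ C} : Subgroup G) : Set G) := by
  intro s hs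
  rw [← Cfsg.Lib.Transfer.map_conj_eq_self_iff]
  refine eq_of_le_of_card_ge ?_ (Cfsg.Lib.Transfer.card_map_conj _ s).ge
  rw [MonoidHom.map_closure, closure_le]
  rintro _ ⟨g, hg, rfl⟩
  exact subset_closure ⟨mul_mem (mul_mem hs hg.1) (inv_mem hs), hC s g hg.2⟩

open Classical in
/-- a product over cosets collapses to the fixed coset when the elements of `C` have small degree -/
theorem prod_cosets (S : Sylow p G) {C : Set G} (hC : ∀ h g : G, g ∈ C → h * g * h⁻¹ ∈ C)
    {M : Subgroup G} (hM : M = normalizer ((closure {g | g ∈ (S : Subgroup G) ∧ g ∈ C} : Subgroup G) : Set G))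
    {U V : Subgroup G} (hUV : Cfsg.IsChiefFactor U V) (hU : IsPGroup p U)
    (hdeg : ∀ g ∈ C, Cfsg.iterCommutator U (zpowers g) (p - 1) ≤ V)
    {A : Type u} [CommGroup A] [Fintype (G ⧸ M)] (F : G ⧸ M → A)
    (hF : ∀ (g : G) (z : G ⧸ M), ∃ φ : U →* A, (∀ x : U, (x : G) ∈ V → φ x = 1) ∧ ∃ (u : U) (e : G),
      (e = g ∨ e = g⁻¹) ∧ ∀ a : ℕ, F (g ^ a • z) = φ ⟨e ^ a * (u : G) * (e ^ a)⁻¹, hUV.2.1.conj_mem _ u.2 _⟩) :
    ∏ y : G ⧸ M, F y = F (QuotientGroup.mk 1) := by
  set L := closure {g | g ∈ (S : Subgroup G) ∧ g ∈ C}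
  have hLS : L ≤ (S : Subgroup G) := (closure_le _).mpr fun g hg => hg.1
  have hSM : (S : Subgroup G) ≤ M := hM ▸ le_normalizer_closure S hC
  have hmem : ∀ x : G, x ∈ M ↔ x ∈ normalizer (L : Set G) := fun x => by rw [hM]
  have horbit : ∀ y₀ : G ⧸ M, y₀ ≠ QuotientGroup.mk 1 →
      ∏ y ∈ Finset.univ.filter (fun y : G ⧸ M => (Quotient.mk'' y : MulAction.orbitRel.Quotient L (G ⧸ M)) = Quotient.mk'' y₀),
        F y = 1 := by
    intro y₀ hy₀
    set St := MulAction.stabilizer L y₀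
    have hSt : St ≠ ⊤ := by
      intro hst
      apply hy₀
      obtain ⟨t, rfl⟩ := QuotientGroup.mk_surjective y₀
      have hLM : L.map (MulAut.conj t⁻¹).toMonoidHom ≤ M := by
        rintro _ ⟨l, hl, rfl⟩
        have h1 : (⟨l, hl⟩ : L) ∈ St := by rw [hst]; exact mem_top _
        have h2 : (QuotientGroup.mk (l * t) : G ⧸ M) = QuotientGroup.mk t := h1
        have h3 := QuotientGroup.eq.mp h2.symm
        show t⁻¹ * l * t⁻¹⁻¹ ∈ M
        rwa [inv_inv, mul_assoc]
      obtain ⟨R, hR⟩ := (((S.2.to_le hLS).map _).comap_subtype (K := M) :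
        IsPGroup p ((L.map (MulAut.conj t⁻¹).toMonoidHom).subgroupOf M)).exists_le_sylow
      obtain ⟨m, hm⟩ := MulAction.exists_smul_eq M R (S.subtype hSM)
      have hmt : (m : G) * t⁻¹ ∈ M := by
        refine (hmem _).mpr ?_
        rw [← Cfsg.Lib.Transfer.map_conj_eq_self_iff]
        refine eq_of_le_of_card_ge ?_ (Cfsg.Lib.Transfer.card_map_conj L _).ge
        rw [MonoidHom.map_closure, closure_le]
        rintro _ ⟨g, hg, rfl⟩
        refine subset_closure ⟨?_, hC _ g hg.2⟩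
        have hx : t⁻¹ * g * t ∈ L.map (MulAut.conj t⁻¹).toMonoidHom :=
          ⟨g, subset_closure hg, by simp⟩
        have h5 : m * ⟨t⁻¹ * g * t, hLM hx⟩ * m⁻¹ ∈ (S.subtype hSM : Subgroup M) := by
          rw [← hm]
          exact Cfsg.Lib.Transfer.mem_conj_sylow_iff.mpr (hR hx)
        rw [Sylow.coe_subtype, mem_subgroupOf] at h5
        simpa [mul_assoc] using h5
      refine QuotientGroup.eq.mpr ?_
      rw [mul_one]
      have := mul_mem (inv_mem m.2) hmt
      rwa [inv_mul_cancel_left] at this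
    obtain ⟨Rm, hRm, hStR⟩ := (eq_top_or_exists_le_coatom St).resolve_left hSt
    haveI : Group.IsNilpotent L := (S.2.to_le hLS).isNilpotent
    haveI : Rm.Normal := NormalizerCondition.normal_of_coatom Rm Group.normalizerCondition_of_isNilpotent hRm
    obtain ⟨g, hgS, hgR⟩ : ∃ g : L, ((g : G) ∈ (S : Subgroup G) ∧ (g : G) ∈ C) ∧ g ∉ Rm := by
      by_contra h
      push Not at h
      refine hRm.1 (eq_top_iff.mpr ?_)
      rintro ⟨x, hx⟩ -
      have key : L ≤ Rm.map L.subtype := (closure_le _).mpr fun g hg =>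
        ⟨⟨g, subset_closure hg⟩, h _ hg, rfl⟩
      obtain ⟨z, hz, e⟩ := key hx
      exact (show z = ⟨x, hx⟩ from Subtype.ext e) ▸ hz
    set O := Finset.univ.filter (fun y : G ⧸ M =>
      (Quotient.mk'' y : MulAction.orbitRel.Quotient L (G ⧸ M)) = Quotient.mk'' y₀)
    have hO : ∀ y ∈ O, ∀ l : L, l • y = y → l ∈ Rm := by
      intro y hy l hl
      have hrel := Quotient.exact' (Finset.mem_filter.mp hy).2
      rw [MulAction.orbitRel_apply] at hrel
      obtain ⟨k, rfl⟩ := hrel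
      have h1 : k⁻¹ * l * k ∈ St := by
        rw [MulAction.mem_stabilizer_iff, mul_smul, mul_smul, hl, inv_smul_smul]
      have h2 := (inferInstance : Rm.Normal).conj_mem _ (hStR h1) k
      simpa [mul_assoc] using h2
    have hOg : ∀ y ∈ O, ∀ z : zpowers g, (z : L) • y ∈ O := by
      intro y hy z
      refine Finset.mem_filter.mpr ⟨Finset.mem_univ _, ?_⟩
      rw [← (Finset.mem_filter.mp hy).2]
      exact Quotient.sound' (MulAction.orbitRel_apply.mpr ⟨(z : L), rfl⟩)
    rw [← Finset.prod_fiberwise_of_maps_to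
      (t := O.image (fun y => (Quotient.mk'' y : MulAction.orbitRel.Quotient (zpowers g) (G ⧸ M))))
      (g := fun y => (Quotient.mk'' y : MulAction.orbitRel.Quotient (zpowers g) (G ⧸ M)))
      (fun y hy => Finset.mem_image_of_mem _ hy)]
    refine Finset.prod_eq_one fun o ho => ?_
    obtain ⟨z, hz, rfl⟩ := Finset.mem_image.mp ho
    set n := Function.minimalPeriod (g • ·) z
    have hper : g ^ n • z = z := MulAction.pow_smul_eq_iff_minimalPeriod_dvd.mpr dvd_rfl
    have himg : O.filter (fun y => (Quotient.mk'' y : MulAction.orbitRel.Quotient (zpowers g) (G ⧸ M)) =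
        Quotient.mk'' z) = (Finset.range n).image (fun i => g ^ i • z) := by
      ext y
      simp only [Finset.mem_filter, Finset.mem_image, Finset.mem_range]
      constructor
      · rintro ⟨-, hy⟩
        have hrel := Quotient.exact' hy
        rw [MulAction.orbitRel_apply] at hrel
        obtain ⟨⟨_, k, rfl⟩, hk⟩ := hrel
        obtain ⟨i, hi⟩ := (isOfFinOrder_of_finite g).mem_powers_iff_mem_zpowers.mpr
          (⟨k, rfl⟩ : g ^ k ∈ zpowers g)
        refine ⟨i % n, Nat.mod_lt _ ?_, ?_⟩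
        · refine Function.IsPeriodicPt.minimalPeriod_pos (orderOf_pos g) ?_
          show (g • ·)^[orderOf g] z = z
          rw [smul_iterate]
          show g ^ orderOf g • z = z
          rw [pow_orderOf_eq_one, one_smul]
        · rw [← hk]
          show g ^ (i % n) • z = g ^ k • z
          rw [← show g ^ i = g ^ k from hi]
          have h := Function.iterate_mod_minimalPeriod_eq (f := (g • ·)) (x := z) (n := i)
          simpa only [smul_iterate] using h
      · rintro ⟨i, -, rfl⟩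
        exact ⟨hOg z hz ⟨g ^ i, pow_mem (mem_zpowers g) i⟩,
          Quotient.sound' (MulAction.orbitRel_apply.mpr ⟨⟨g ^ i, pow_mem (mem_zpowers g) i⟩, rfl⟩)⟩
    rw [himg, Finset.prod_image (fun i hi j hj e => by
      refine (Function.iterate_eq_iterate_iff_of_lt_minimalPeriod (f := (g • ·)) (x := z)
        (Finset.mem_range.mp hi) (Finset.mem_range.mp hj)).mp ?_
      simpa only [smul_iterate] using e)]
    obtain ⟨k, hk⟩ := IsPGroup.iff_orderOf.mp (S.2.to_le hLS) g
    obtain ⟨j, -, hj⟩ := (Nat.dvd_prime_pow (Fact.out : p.Prime)).mp (show n ∣ p ^ k by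
      rw [← hk]; exact MulAction.pow_smul_eq_iff_minimalPeriod_dvd.mp (by rw [pow_orderOf_eq_one, one_smul]))
    obtain ⟨j', rfl⟩ : ∃ j', j = j' + 1 := Nat.exists_eq_succ_of_ne_zero fun h0 => hgR (hO z hz g (by
      rw [h0, pow_zero] at hj; rwa [hj, pow_one] at hper))
    rw [hj, pow_succ]
    refine prod_range_blocks _ (fun b => ?_) _
    obtain ⟨φ, hφV, u, e, he, hval⟩ := hF (g : G) z
    simp only [show ∀ a : ℕ, F (g ^ a • z) =
      φ ⟨e ^ a * (u : G) * (e ^ a)⁻¹, hUV.2.1.conj_mem _ u.2 _⟩ from fun a => hval a]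
    refine Eq.trans (Finset.prod_congr rfl fun i _ => ?_) (norm_mem (g := e⁻¹) hUV hU
      (by
        rw [zpowers_inv]
        rcases he with rfl | rfl
        · exact hdeg _ hgS.2
        · rw [zpowers_inv]; exact hdeg _ hgS.2)
      φ hφV ⟨e ^ (b * p) * (u : G) * (e ^ (b * p))⁻¹, hUV.2.1.conj_mem _ u.2 _⟩ hUV.2.1)
    congr 1
    refine Subtype.ext ?_
    show e ^ (b * p + i) * (u : G) * (e ^ (b * p + i))⁻¹ =
      e⁻¹⁻¹ ^ i * (e ^ (b * p) * (u : G) * (e ^ (b * p))⁻¹) * (e⁻¹⁻¹ ^ i)⁻¹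
    rw [inv_inv, add_comm (b * p) i, pow_add]
    group
  rw [← Finset.prod_fiberwise_of_maps_to
    (t := Finset.univ.image (fun y => (Quotient.mk'' y : MulAction.orbitRel.Quotient L (G ⧸ M))))
    (g := fun y => (Quotient.mk'' y : MulAction.orbitRel.Quotient L (G ⧸ M)))
    (fun y hy => Finset.mem_image_of_mem _ hy),
    Finset.prod_eq_single (Quotient.mk'' (QuotientGroup.mk (1 : G)))]
  · rw [show Finset.univ.filter (fun y : G ⧸ M => (Quotient.mk'' y : MulAction.orbitRel.Quotient L (G ⧸ M)) =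
        Quotient.mk'' (QuotientGroup.mk 1)) = {QuotientGroup.mk 1} from ?_, Finset.prod_singleton]
    ext y
    simp only [Finset.mem_filter, Finset.mem_univ, true_and, Finset.mem_singleton]
    refine ⟨fun hy => ?_, fun hy => hy ▸ rfl⟩
    have hrel := Quotient.exact' hy
    rw [MulAction.orbitRel_apply] at hrel
    obtain ⟨l, rfl⟩ := hrel
    refine QuotientGroup.eq.mpr ?_
    have hl : (l : G) ∈ M := hM ▸ le_normalizer l.2
    simpa using hl
  · intro o ho hne
    obtain ⟨y₀, -, rfl⟩ := Finset.mem_image.mp ho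
    exact horbit y₀ (fun e => hne (by rw [e]))
  · intro h
    exact absurd (Finset.mem_image_of_mem _ (Finset.mem_univ _)) h

open Classical in
/-- transfer kills `O_p` when the elements of small degree lie outside -/
theorem inf_commutator_le_of_degree (S : Sylow p G) {D : Subgroup G}
    (hD : ⁅(S : Subgroup G), (S : Subgroup G)⁆ ≤ D)
    (hM : ∀ M : Subgroup G, M ≠ ⊤ → (S : Subgroup G) ≤ M → (S : Subgroup G) ⊓ ⁅M, M⁆ ≤ D)
    {g₀ : G} (hg₀ : g₀ ∈ (S : Subgroup G)) (hg₀Q : g₀ ∉ Cfsg.pCore p G)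
    (hdeg₀ : ∀ U V : Subgroup G, Cfsg.IsChiefFactor U V → U ≤ Cfsg.pCore p G →
      Cfsg.iterCommutator U (zpowers g₀) (p - 1) ≤ V) :
    Cfsg.pCore p G ⊓ commutator G ≤ D := by
  set Q := Cfsg.pCore p G
  have hQp : IsPGroup p Q := Cfsg.Lib.Components.isPGroup_pCore p
  have hQS : Q ≤ (S : Subgroup G) := Cfsg.Lib.Thompson.le_sylow_of_normal hQp S
  let Deg : G → Prop := fun g => ∀ U V : Subgroup G, Cfsg.IsChiefFactor U V → U ≤ Q →
      Cfsg.iterCommutator U (zpowers g) (p - 1) ≤ V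
  have hDegconj : ∀ h g : G, Deg g → Deg (h * g * h⁻¹) := by
    intro h g hg U V hUV hUQ
    have hUn := hUV.2.1
    have hVn := hUV.2.2.1
    have hm := map_mono (f := (MulAut.conj h).toMonoidHom) (hg U V hUV hUQ)
    rwa [Cfsg.Lib.Degree.map_iterCommutator, MonoidHom.map_zpowers,
      Cfsg.Lib.Transfer.map_conj_eq_self_iff.mpr (by rw [normalizer_eq_top_iff.mpr hUn]; exact mem_top h),
      Cfsg.Lib.Transfer.map_conj_eq_self_iff.mpr (by rw [normalizer_eq_top_iff.mpr hVn]; exact mem_top h)] at hm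
  set L := closure {g | g ∈ (S : Subgroup G) ∧ Deg g}
  have hLS : L ≤ (S : Subgroup G) := (closure_le _).mpr fun g hg => hg.1
  set M := normalizer (L : Set G)
  have hSM : (S : Subgroup G) ≤ M := by
    intro s hs
    show s ∈ normalizer (L : Set G)
    rw [← Cfsg.Lib.Transfer.map_conj_eq_self_iff]
    refine eq_of_le_of_card_ge ?_ (Cfsg.Lib.Transfer.card_map_conj L s).ge
    rw [MonoidHom.map_closure, closure_le]
    rintro _ ⟨g, hg, rfl⟩
    exact subset_closure ⟨mul_mem (mul_mem hs hg.1) (inv_mem hs), hDegconj s g hg.2⟩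
  have hMne : M ≠ ⊤ := fun h => hg₀Q (by
    haveI : L.Normal := normalizer_eq_top_iff.mp h
    exact Cfsg.Lib.Components.le_pCore (S.2.to_le hLS) (subset_closure ⟨hg₀, hdeg₀⟩))
  have hMD := hM M hMne hSM
  obtain ⟨A, _, π, hn, hA, hker⟩ := exists_target S hD
  by_contra hno
  obtain ⟨U, ⟨hUn, hUle, hUD⟩, hUmin⟩ := Set.exists_min_image
    {U : Subgroup G | U.Normal ∧ U ≤ Q ⊓ commutator G ∧ ¬ U ≤ D} (fun U => Nat.card U) (Set.toFinite _)
    ⟨_, inferInstance, le_rfl, hno⟩
  haveI := hUn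
  have hUQ : U ≤ Q := hUle.trans inf_le_left
  have hUS : U ≤ (S : Subgroup G) := hUQ.trans hQS
  obtain ⟨V, ⟨hVn, hVU⟩, hVmax⟩ := Set.exists_max_image
    {V : Subgroup G | V.Normal ∧ V < U} (fun V => Nat.card V) (Set.toFinite _)
    ⟨⊥, inferInstance, bot_lt_iff_ne_bot.mpr fun h => hUD (h ▸ bot_le)⟩
  haveI := hVn
  have hchief : Cfsg.IsChiefFactor U V := ⟨hVU, hUn, hVn, fun N hN h1 h2 => by
    rcases eq_or_lt_of_le h2 with e | e
    · exact Or.inr e
    · exact Or.inl (eq_of_le_of_card_ge h1 (hVmax N ⟨hN, e⟩)).symm⟩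
  have hVD : V ≤ D := by
    by_contra h
    exact hVU.ne (eq_of_le_of_card_ge hVU.le (hUmin V ⟨hVn, hVU.le.trans hUle, h⟩))
  let φ : U →* A := π.comp (inclusion hUS)
  have hφV : ∀ x : U, (x : G) ∈ V → φ x = 1 := fun x hx => (hker _).mpr (hVD hx)
  -- the class function on the cosets
  have hwd : ∀ (u : U) (t : G) (m : G), m ∈ M →
      φ ⟨(t * m)⁻¹ * (u : G) * (t * m), by simpa using hUn.conj_mem _ u.2 (t * m)⁻¹⟩ =
        φ ⟨t⁻¹ * (u : G) * t, by simpa using hUn.conj_mem _ u.2 t⁻¹⟩ := by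
    intro u t m hm
    set v := t⁻¹ * (u : G) * t
    have hv : v ∈ U := by simpa [v] using hUn.conj_mem _ u.2 t⁻¹
    show φ _ = φ _
    rw [← mul_inv_eq_one, ← map_inv, ← map_mul]
    refine (hker _).mpr ?_
    show (t * m)⁻¹ * (u : G) * (t * m) * v⁻¹ ∈ D
    rw [show (t * m)⁻¹ * (u : G) * (t * m) * v⁻¹ = ⁅m⁻¹, v⁆ by simp only [v, commutatorElement_def]; group]
    refine hMD ⟨hUS ?_, commutator_mem_commutator (inv_mem hm) (hSM (hUS hv))⟩
    rw [commutatorElement_def, inv_inv]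
    exact mul_mem (by simpa using hUn.conj_mem v hv m⁻¹) (inv_mem hv)
  let F : G → G ⧸ M → A := fun v y =>
    if hv : v ∈ U then φ ⟨y.out⁻¹ * v * y.out, by simpa using hUn.conj_mem v hv y.out⁻¹⟩ else 1
  have hF' : ∀ (u : U) (t : G), F u (QuotientGroup.mk t) =
      φ ⟨t⁻¹ * (u : G) * t, by simpa using hUn.conj_mem _ u.2 t⁻¹⟩ := by
    intro u t
    obtain ⟨m, hm⟩ := QuotientGroup.mk_out_eq_mul M t
    simp only [F, dif_pos u.2, hm]
    exact hwd u t m m.2
  letI : Fintype (G ⧸ M) := Fintype.ofFinite _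
  apply hUD
  intro u hu
  have hprod := prod_conj_eq_one (D := D) S π hA hSM hUn hUS F (fun v hv t => hF' ⟨v, hv⟩ t) hu (hUle hu).2
  rw [prod_cosets S (C := {g | Deg g}) hDegconj (M := M) rfl hchief (hQp.to_le hUQ) (fun g hg => hg U V hchief hUQ) (F u)
    (fun g z => ?_)] at hprod
  · have h := hF' ⟨u, hu⟩ 1
    simp only [inv_one, one_mul, mul_one] at h
    rw [h] at hprod
    exact (hker _).mp hprod
  obtain ⟨t, rfl⟩ := QuotientGroup.mk_surjective z
  refine ⟨φ.comp (MulAut.conjNormal (H := U) t⁻¹).toMonoidHom, fun x hx => hφV _ (by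
    show ((MulAut.conjNormal t⁻¹ x : U) : G) ∈ V
    rw [MulAut.conjNormal_apply]
    exact hVn.conj_mem _ hx t⁻¹), ⟨u, hu⟩, g⁻¹, Or.inr rfl, fun a => ?_⟩
  show F u (QuotientGroup.mk (g ^ a * t)) = φ _
  rw [hF' ⟨u, hu⟩]
  congr 1
  refine Subtype.ext ?_
  show (g ^ a * t)⁻¹ * u * (g ^ a * t) = ((MulAut.conjNormal t⁻¹ _ : U) : G)
  rw [MulAut.conjNormal_apply]
  show (g ^ a * t)⁻¹ * u * (g ^ a * t) = t⁻¹ * (g⁻¹ ^ a * u * (g⁻¹ ^ a)⁻¹) * t⁻¹⁻¹
  rw [inv_pow]
  group

end Cfsg.Lib.Control
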