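import Cfsg.Agent.Components.Control.TransferNormal
import Cfsg.Agent.Components.Control.Functors
import Cfsg.Prelude.Def_Amalgam

/-!
Weak closure of central subgroups through conjugacy functors.
-/

set_option linter.style.haveILetI false
set_option linter.unusedSectionVars false

namespace Cfsg.Lib.Control

open Subgroup
open scoped commutatorElement

universe u

variable {G : Type u} [Group G] [Finite G] {p : ℕ} [Fact p.Prime]

theorem subgroupOf_normalizer {H Z : Subgroup G} (hZ : Z ≤ H) :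
    normalizer ((Z.subgroupOf H : Subgroup H) : Set H) = (normalizer (Z : Set G)).subgroupOf H := by
  ext x
  rw [mem_subgroupOf, ← Cfsg.Lib.Transfer.map_conj_eq_self_iff, ← Cfsg.Lib.Transfer.map_conj_eq_self_iff,
    ← (map_injective H.subtype_injective).eq_iff, map_map,
    show H.subtype.comp (MulAut.conj x).toMonoidHom = (MulAut.conj (x : G)).toMonoidHom.comp H.subtype from
      MonoidHom.ext fun z => rfl, ← map_map, map_subgroupOf_eq_of_le hZ]

theorem weakClosure_main (W : Subgroup G → Subgroup G) (hW : Cfsg.IsConjugacyFunctor p W)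
    (hWZ : ∀ P : Subgroup G, IsPGroup p P → P ⊓ centralizer (P : Set G) ≤ W P)
    {A B Stab : Subgroup G} (hAB : A ≤ B) (hAS : centralizer (A : Set G) ≤ Stab)
    (hSA : Stab ≤ normalizer (A : Set G))
    (hfinal : ∀ H T : Subgroup G, T ≤ H → IsPGroup p T → ¬ p ∣ T.relIndex H →
      B ≤ T ⊓ centralizer (T : Set G) → ¬ H ≤ normalizer ((W T : Subgroup G) : Set G) →
      (∀ M : Subgroup G, T ≤ M → M < H → M ≤ Stab) → A ≤ Cfsg.pCoreOf p H → H ≤ Stab) (n : ℕ) :
    ∀ H T : Subgroup G, Nat.card H = n → T ≤ H → IsPGroup p T → ¬ p ∣ T.relIndex H →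
      B ≤ T ⊓ centralizer (T : Set G) → H ⊓ normalizer ((W T : Subgroup G) : Set G) ≤ Stab →
      ∀ h ∈ H, A.map (MulAut.conj h).toMonoidHom ≤ T → h ∈ Stab := by
  classical
  induction n using Nat.strong_induction_on with
  | _ n ih =>
  intro H T hn hTH hT hnd hB hNS h hh hhA
  have hAT : A ≤ T := hAB.trans (hB.trans inf_le_left)
  let T' : Sylow p H := (hT.comap_subtype (K := H)).toSylow hnd
  set 𝓕 := {U : Subgroup H | U ≤ (T' : Subgroup H) ∧ Good p (T' : Subgroup H) U}
  have hgood : ∀ X : Subgroup H, X ≤ (T' : Subgroup H) → ∃ U ∈ 𝓕,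
      (∃ g : H, X.map (MulAut.conj g).toMonoidHom = U) ∧ Good p (T' : Subgroup H) U := fun X hX => by
    obtain ⟨g, hg, hgd⟩ := exists_good T' hX
    exact ⟨_, ⟨hg, hgd⟩, ⟨g, rfl⟩, hgd⟩
  set A' := A.subgroupOf H
  let Bad : Subgroup H → Prop := fun U => U ∈ 𝓕 ∧ A' ≤ U ∧ ¬ normalizer (U : Set H) ≤ Stab.subgroupOf H
  -- along a chain through good subgroups without bad ones nothing moves
  have hfixA : ∀ c : H, (c : G) ∈ Stab → img c (A' : Set H) = (A' : Set H) := fun c hc => by
    rw [img_eq_map, Cfsg.Lib.Transfer.map_conj_eq_self_iff.mpr]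
    rw [subgroupOf_normalizer (hAT.trans hTH)]
    exact hSA hc
  have hchain : ∀ (X : Subgroup H) (g : H), A' ≤ X → X ≤ (T' : Subgroup H) → img g (X : Set H) ⊆ (T' : Subgroup H) →
      (∀ U, Bad U → Nat.card ((T' : Subgroup H) ⊓ normalizer (U : Set H) : Subgroup H) < Nat.card X) →
      (g : G) ∈ Stab := by
    intro X g hAX hX hgX hbad
    have hc := chain_of_good T' 𝓕 (fun U hU => hU.1) hgood (X : Set H) g hX hgX
    clear hgX
    induction hc with
    | one => exact one_mem _
    | @mul x c _ hst ihc =>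
      obtain ⟨U, hU, hXU, hx⟩ := hst
      have hAU : A' ≤ U := by
        intro a ha
        have h1 : a ∈ img c (A' : Set H) := (hfixA c ihc).ge ha
        exact hXU (img_mono hAX h1)
      have hnb : ¬ Bad U := fun hbU => by
        refine absurd (hbad U hbU) (not_lt.mpr ?_)
        rw [← Cfsg.Lib.Transfer.card_map_conj X c]
        refine card_le_of_le (le_trans ?_ (le_inf hU.1 le_normalizer))
        rw [img_eq_map] at hXU
        exact hXU
      simp only [Bad, not_and, not_not] at hnb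
      rw [Subgroup.coe_mul]
      exact mul_mem (hnb hU hAU hx) ihc
  by_cases hex : ∃ U, Bad U
  swap
  · refine hchain A' ⟨h, hh⟩ le_rfl (fun a ha => hAT ha) ?_ (fun U hU => absurd ⟨U, hU⟩ hex)
    refine img_subset_iff.mpr fun a ha => ?_
    exact hhA ⟨(a : G), ha, rfl⟩
  exfalso
  obtain ⟨U, hUbad, hUmax⟩ := Set.exists_max_image {U | Bad U}
    (fun U => Nat.card ((T' : Subgroup H) ⊓ normalizer (U : Set H) : Subgroup H)) (Set.toFinite _) hex
  obtain ⟨⟨hUT, hUgood⟩, hAU, hUbad⟩ := hUbad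
  set N := normalizer (U : Set H)
  set R := (T' : Subgroup H) ⊓ N
  set RG := R.map H.subtype
  have hRT : RG ≤ T := (map_mono inf_le_left).trans (map_subgroupOf_eq_of_le hTH).le
  have hRGH : RG ≤ H := map_subtype_le _
  have hRp : IsPGroup p RG := hT.to_le hRT
  have hBR : B ≤ RG ⊓ centralizer (RG : Set G) := by
    refine le_inf (fun b hb => ?_) ((hB.trans inf_le_right).trans (centralizer_le hRT))
    have hbT := (hB hb).1
    refine ⟨⟨b, hTH hbT⟩, ⟨hbT, Cfsg.Lib.Thompson.centralizer_le_normalizer U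
      (mem_centralizer_iff.mpr fun u hu => Subtype.ext ?_)⟩, rfl⟩
    exact mem_centralizer_iff.mp (hB hb).2 (u : G) (hUT hu)
  have hAR : A' ≤ R := hAU.trans (le_inf hUT le_normalizer)
  -- the normalizer of the functor value keeps `A`
  have hWR : H ⊓ normalizer ((W RG : Subgroup G) : Set G) ≤ Stab := by
    by_cases hRS : R = (T' : Subgroup H)
    · rw [show RG = T by show R.map H.subtype = T; rw [hRS]; exact map_subgroupOf_eq_of_le hTH]
      exact hNS
    have hlt : R < (T' : Subgroup H) := lt_of_le_of_ne inf_le_left hRS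
    obtain ⟨hWle, -, hWc⟩ := hW RG hRp
    set Zw := (W RG).subgroupOf H
    have hZwT : Zw ≤ (T' : Subgroup H) := fun z hz => hRT (hWle hz)
    obtain ⟨V, hV, ⟨a, ha⟩, hVg⟩ := hgood Zw hZwT
    obtain ⟨k, hkV, hkN⟩ := exists_conj_normalizer T' ha hVg
    set X := (T' : Subgroup H) ⊓ normalizer (Zw : Set H)
    have hNR : (T' : Subgroup H) ⊓ normalizer (R : Set H) ≤ X := fun u hu => ⟨hu.1, by
      show u ∈ normalizer (Zw : Set H)
      rw [subgroupOf_normalizer (hWle.trans hRGH), mem_subgroupOf, ← Cfsg.Lib.Transfer.map_conj_eq_self_iff,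
        ← hWc (u : G), Cfsg.Lib.Transfer.map_conj_eq_self_iff.mpr]
      exact le_normalizer_map H.subtype (mem_map_of_mem H.subtype hu.2)⟩
    have hRX : Nat.card R < Nat.card X := lt_of_lt_of_le (card_lt_normalizer T'.2 hlt) (card_le_of_le hNR)
    have hbig : ∀ U', Bad U' → Nat.card ((T' : Subgroup H) ⊓ normalizer (U' : Set H) : Subgroup H) < Nat.card X :=
      fun U' hU' => lt_of_le_of_lt (hUmax U' hU') hRX
    have hAX : A' ≤ X := (hAR.trans (le_inf inf_le_left le_normalizer)).trans hNR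
    have hkX : img k (X : Set H) ⊆ (T' : Subgroup H) := by
      rw [img_eq_map]; exact hkN.trans inf_le_left
    have hk : (k : G) ∈ Stab := hchain X k hAX inf_le_left hkX hbig
    have hAZ : A' ≤ Zw := fun x hx => hWZ RG hRp ((hAB.trans hBR) hx)
    have hAV : A' ≤ V := by
      intro x hx
      have h1 : x ∈ img k (A' : Set H) := (hfixA k hk).ge hx
      obtain ⟨z, hz, rfl⟩ := h1
      rw [← hkV]
      exact ⟨z, hAZ hz, rfl⟩
    have hVnb : ¬ Bad V := fun hb => by
      refine absurd (hbig V hb) (not_lt.mpr ?_)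
      rw [← Cfsg.Lib.Transfer.card_map_conj X k]
      exact card_le_of_le hkN
    simp only [Bad, not_and, not_not] at hVnb
    have hVS := hVnb hV hAV
    rintro y ⟨hyH, hy⟩
    have h1 : k * ⟨y, hyH⟩ * k⁻¹ ∈ normalizer (V : Set H) := by
      rw [← hkV, show normalizer ((Zw.map (MulAut.conj k).toMonoidHom : Subgroup H) : Set H) =
        (normalizer (Zw : Set H)).map (MulAut.conj k).toMonoidHom from Cfsg.Lib.Coprime.normalizer_conjMap k Zw]
      exact ⟨⟨y, hyH⟩, by rw [SetLike.mem_coe, subgroupOf_normalizer (hWle.trans hRGH)]; exact hy, rfl⟩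
    have h2 : (k : G) * y * (k : G)⁻¹ ∈ Stab := hVS h1
    have h3 := mul_mem (mul_mem (inv_mem hk) h2) hk
    simpa [mul_assoc] using h3
  by_cases hNtop : N = ⊤
  · -- `U` is normal
    haveI : U.Normal := normalizer_eq_top_iff.mp hNtop
    have hRS : R = (T' : Subgroup H) := by show _ ⊓ N = _; rw [hNtop, inf_top_eq]
    have hAQ : A ≤ Cfsg.pCoreOf p H := fun x hx =>
      ⟨⟨x, hTH (hAT hx)⟩, Cfsg.Lib.Components.le_pCore (T'.2.to_le hUT) (hAU (show (⟨x, hTH (hAT hx)⟩ : H) ∈ A' from hx)), rfl⟩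
    have hQT : Cfsg.pCoreOf p H ≤ T := (map_mono (Cfsg.Lib.Thompson.le_sylow_of_normal
      (Cfsg.Lib.Components.isPGroup_pCore p) T')).trans (map_subgroupOf_eq_of_le hTH).le
    have hall : H ≤ Stab := by
      by_cases hWn : H ≤ normalizer ((W T : Subgroup G) : Set G)
      · exact (le_inf le_rfl hWn).trans hNS
      refine hfinal H T hTH hT hnd hB hWn (fun M hTM hMH => ?_) hAQ
      intro m hm
      refine ih (Nat.card M) ?_ M T rfl hTM hT
        (fun hd => hnd (hd.trans ⟨M.relIndex H, (relIndex_mul_relIndex T M H hTM hMH.le).symm⟩)) hB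
        ((inf_le_inf_right _ hMH.le).trans hNS) m hm ?_
      · rw [← hn]
        exact lt_of_not_ge fun hle => hMH.ne (eq_of_le_of_card_ge hMH.le hle)
      · rintro _ ⟨a, ha, rfl⟩
        obtain ⟨q, hq, e⟩ := hAQ ha
        refine hQT ⟨(⟨m, hMH.le hm⟩ : H) * q * (⟨m, hMH.le hm⟩ : H)⁻¹, Normal.conj_mem inferInstance q hq _, ?_⟩
        show m * (H.subtype q) * m⁻¹ = m * a * m⁻¹
        rw [e]
    exact hUbad fun y _ => hall y.2
  · apply hUbad
    intro y hy
    have hH'lt : Nat.card (N.map H.subtype) < n := by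
      rw [← hn, card_subtype]
      exact lt_of_le_of_ne (card_le_card_group N) (fun h => hNtop (N.eq_top_of_card_eq h))
    refine ih _ hH'lt (N.map H.subtype) RG rfl (map_mono inf_le_right) hRp ?_ hBR
      ((inf_le_inf_right _ (map_subtype_le N)).trans hWR) (y : G) (mem_map_of_mem H.subtype hy) ?_
    · rw [show RG = R.map H.subtype from rfl, relIndex_map_map_of_injective _ _ H.subtype_injective]
      exact hUgood
    · rintro _ ⟨a, ha, rfl⟩
      refine ⟨y * ⟨a, hTH (hAT ha)⟩ * y⁻¹, ?_, rfl⟩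
      exact (le_inf hUT le_normalizer : U ≤ R) ((mem_normalizer_iff.mp hy _).mp (hAU (show (⟨a, hTH (hAT ha)⟩ : H) ∈ A' from ha)))

end Cfsg.Lib.Control
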