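import Cfsg.Agent.Components.Control.WeakClosure
import Cfsg.Agent.Components.ZJ.Reduce
import Cfsg.Agent.Components.KInf.Basic

/-!
Elements of small degree force weak closure of central subgroups.
-/

set_option linter.style.haveILetI false
set_option linter.unusedSectionVars false

namespace Cfsg.Lib.Control

open Subgroup
open scoped commutatorElement
open Cfsg.Lib.KInf (zc map_zc)

universe u

variable {G : Type u} [Group G] [Finite G] {p : ℕ} [Fact p.Prime]

/-- Frattini reduction -/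
theorem eq_top_of_frattini (S : Sylow p G) (C : Subgroup G) [C.Normal] {Stab : Subgroup G}
    (hCS : C ≤ Stab) (hout : ¬ (S : Subgroup G) ⊓ C ≤ Cfsg.pCore p G)
    (hM : ∀ M : Subgroup G, (S : Subgroup G) ≤ M → M ≠ ⊤ → M ≤ Stab) : Stab = ⊤ := by
  have hfr := Cfsg.Lib.ZJ.sup_normalizer_inf_eq_top C S
  refine top_le_iff.mp (hfr.ge.trans (sup_le hCS (hM _
    (Cfsg.Lib.Coprime.le_normalizer_inf le_normalizer le_normalizer_of_normal) fun htop => hout ?_)))
  haveI : ((S : Subgroup G) ⊓ C).Normal := normalizer_eq_top_iff.mp htop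
  exact Cfsg.Lib.Components.le_pCore (S.2.to_le inf_le_left)

/-- a quadratic element outside `O_p` -/
theorem eq_top_of_quadratic (S : Sylow p G) {A B Stab : Subgroup G}
    (hB : B ≤ (S : Subgroup G) ⊓ centralizer ((S : Subgroup G) : Set G))
    (hAB : A ≤ closure ((fun z : G => z ^ p) '' (B : Set G))) (hAQ : A ≤ Cfsg.pCore p G)
    (hAS : centralizer (A : Set G) ≤ Stab) {g : G} (hgS : g ∈ (S : Subgroup G)) (hgQ : g ∉ Cfsg.pCore p G)
    (hq : ⁅⁅zc (Cfsg.pCore p G), zpowers g⁆, zpowers g⁆ = ⊥)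
    (hM : ∀ M : Subgroup G, (S : Subgroup G) ≤ M → M ≠ ⊤ → M ≤ Stab) : Stab = ⊤ := by
  classical
  set Q := Cfsg.pCore p G
  have hQS : Q ≤ (S : Subgroup G) :=
    Cfsg.Lib.Thompson.le_sylow_of_normal (Cfsg.Lib.Components.isPGroup_pCore p) S
  by_cases hcQ : (S : Subgroup G) ⊓ centralizer (Q : Set G) ≤ Q
  swap
  · exact eq_top_of_frattini S (centralizer (Q : Set G)) ((centralizer_le hAQ).trans hAS) hcQ hM
  have hBZ : B ≤ zc Q := fun b hb => by
    have hc : b ∈ centralizer (Q : Set G) := centralizer_le hQS (hB hb).2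
    exact ⟨hcQ ⟨(hB hb).1, hc⟩, hc⟩
  haveI hZn : (zc Q).Normal := inferInstanceAs (Q ⊓ centralizer (Q : Set G)).Normal
  set P := (fun z : G => z ^ p) '' (zc Q : Set G)
  set C := centralizer P
  haveI hCn : C.Normal := ⟨fun c hc y => mem_centralizer_iff.mpr (by
    rintro _ ⟨z, hz, rfl⟩
    have hz' : y⁻¹ * z * y ∈ zc Q := by simpa using hZn.conj_mem z hz y⁻¹
    have h1 := mem_centralizer_iff.mp hc _ ⟨_, hz', rfl⟩
    have h2 : (y⁻¹ * z * y) ^ p = y⁻¹ * z ^ p * y := by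
      rw [show y⁻¹ * z * y = y⁻¹ * z * y⁻¹⁻¹ by rw [inv_inv], conj_pow, inv_inv]
    change (y⁻¹ * z * y) ^ p * c = c * (y⁻¹ * z * y) ^ p at h1
    rw [h2] at h1
    show z ^ p * (y * c * y⁻¹) = y * c * y⁻¹ * z ^ p
    calc z ^ p * (y * c * y⁻¹) = y * ((y⁻¹ * z ^ p * y) * c) * y⁻¹ := by group
      _ = y * (c * (y⁻¹ * z ^ p * y)) * y⁻¹ := by rw [h1]
      _ = _ := by group)⟩
  have hCA : C ≤ Stab := by
    refine le_trans ?_ hAS
    refine le_trans (le_centralizer_iff.mp ((closure_le _).mpr ?_)) (centralizer_le hAB)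
    rintro _ ⟨b, hb, rfl⟩
    exact mem_centralizer_iff.mpr fun c hc => (mem_centralizer_iff.mp hc _ ⟨b, hBZ hb, rfl⟩).symm
  refine eq_top_of_frattini S C hCA (fun hle => hgQ ?_) hM
  -- a power of `g` of order `p` modulo `O_p`
  obtain ⟨k, hk⟩ := IsPGroup.iff_orderOf.mp S.2 ⟨g, hgS⟩
  rw [Subgroup.orderOf_mk] at hk
  have hex : ∃ i, g ^ p ^ i ∈ Q := ⟨k, by rw [← hk, pow_orderOf_eq_one]; exact one_mem Q⟩
  obtain ⟨i, hi⟩ : ∃ i, Nat.find hex = i + 1 := Nat.exists_eq_succ_of_ne_zero fun h0 => hgQ (by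
    have := Nat.find_spec hex
    rwa [h0, pow_zero, pow_one] at this)
  set h := g ^ p ^ i
  have hhQ : h ∉ Q := Nat.find_min hex (by omega)
  have hhp : h ^ p ∈ Q := by
    have := Nat.find_spec hex
    rw [hi, pow_succ, pow_mul] at this
    exact this
  refine absurd (hle ⟨pow_mem hgS _, mem_centralizer_iff.mpr ?_⟩) hhQ
  rintro _ ⟨z, hz, rfl⟩
  show z ^ p * h = h * z ^ p
  set d := h * z * h⁻¹ * z⁻¹ with hd
  have hd1 : d ∈ ⁅zc Q, zpowers g⁆ := by
    rw [commutator_comm, show d = ⁅h, z⁆ from (commutatorElement_def _ _).symm]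
    exact commutator_mem_commutator (pow_mem (mem_zpowers g) _) hz
  have hdg : d ∈ centralizer (zpowers g : Set G) := commutator_eq_bot_iff_le_centralizer.mp hq hd1
  have hdh : h * d = d * h := mem_centralizer_iff.mp hdg h (pow_mem (mem_zpowers g) _)
  have hdZ : d ∈ zc Q := commutator_le_left (zc Q) (zpowers g) hd1
  have hdz : Commute d z := mem_centralizer_iff.mp hz.2 d hdZ.1
  have hit : ∀ m : ℕ, h ^ m * z * (h ^ m)⁻¹ = d ^ m * z := by
    intro m
    induction m with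
    | zero => simp
    | succ m ihm =>
      calc h ^ (m + 1) * z * (h ^ (m + 1))⁻¹ = h * (h ^ m * z * (h ^ m)⁻¹) * h⁻¹ := by rw [pow_succ']; group
        _ = (h * d ^ m * h⁻¹) * (h * z * h⁻¹) := by rw [ihm]; group
        _ = d ^ m * (d * z) := by
          rw [((show Commute h d from hdh).pow_right m).eq, mul_inv_cancel_right, hd]; group
        _ = _ := by rw [pow_succ]; exact (mul_assoc _ _ _).symm
  have h1 := hit p
  rw [mem_centralizer_iff.mp hz.2 _ hhp, mul_inv_cancel_right] at h1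
  have hdp : d ^ p = 1 := mul_eq_right.mp h1.symm
  have h2 : h * z ^ p * h⁻¹ = z ^ p := by
    rw [← conj_pow, show h * z * h⁻¹ = d * z by rw [hd]; group, hdz.mul_pow, hdp, one_mul]
  exact (mul_inv_eq_iff_eq_mul.mp h2).symm

/-- the norm argument -/
theorem central_of_degree (S : Sylow p G) {Z : Subgroup G} [Z.Normal] (hZp : IsPGroup p Z)
    (hZc : ∀ a ∈ Z, ∀ b ∈ Z, a * b = b * a) {C : Set G} (hC : ∀ h g : G, g ∈ C → h * g * h⁻¹ ∈ C)
    (hdeg : ∀ g ∈ C, ∀ U V : Subgroup G, Cfsg.IsChiefFactor U V → U ≤ Z →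
      Cfsg.iterCommutator U (zpowers g) (p - 1) ≤ V) (n : ℕ) :
    ∀ U : Subgroup G, Nat.card U = n → U.Normal → U ≤ Z → ∀ x ∈ U,
      (∀ m ∈ normalizer ((closure {g | g ∈ (S : Subgroup G) ∧ g ∈ C} : Subgroup G) : Set G), m * x * m⁻¹ = x) →
      ∀ g : G, g * x * g⁻¹ = x := by
  classical
  induction n using Nat.strong_induction_on with
  | _ n ih =>
  intro U hn hUn hUZ x hx hfix
  haveI := hUn
  by_cases hU : U = ⊥
  · intro g; rw [show x = 1 from mem_bot.mp (hU ▸ hx)]; simp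
  obtain ⟨V, ⟨hVn, hVU⟩, hVmax⟩ := Set.exists_max_image
    {V : Subgroup G | V.Normal ∧ V < U} (fun V => Nat.card V) (Set.toFinite _)
    ⟨⊥, inferInstance, bot_lt_iff_ne_bot.mpr hU⟩
  haveI := hVn
  have hchief : Cfsg.IsChiefFactor U V := ⟨hVU, hUn, hVn, fun N hN h1 h2 => by
    rcases eq_or_lt_of_le h2 with e | e
    · exact Or.inr e
    · exact Or.inl (eq_of_le_of_card_ge h1 (hVmax N ⟨hN, e⟩)).symm⟩
  set M := normalizer ((closure {g | g ∈ (S : Subgroup G) ∧ g ∈ C} : Subgroup G) : Set G) with hM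
  letI : CommGroup U :=
    { (inferInstance : Group U) with mul_comm := fun a b => Subtype.ext (hZc _ (hUZ a.2) _ (hUZ b.2)) }
  letI : Fintype (G ⧸ M) := Fintype.ofFinite _
  let c : G ⧸ M → U := fun y => ⟨y.out * x * y.out⁻¹, hUn.conj_mem x hx _⟩
  have hc : ∀ t : G, ((c (QuotientGroup.mk t) : U) : G) = t * x * t⁻¹ := fun t => by
    obtain ⟨m, hm⟩ := QuotientGroup.mk_out_eq_mul M t
    show (QuotientGroup.mk t : G ⧸ M).out * x * (QuotientGroup.mk t : G ⧸ M).out⁻¹ = _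
    rw [hm, show t * (m : G) * x * (t * (m : G))⁻¹ = t * ((m : G) * x * (m : G)⁻¹) * t⁻¹ by group, hfix m m.2]
  set ν : U := ∏ y : G ⧸ M, c y
  have hν : ∀ g : G, g * (ν : G) * g⁻¹ = ν := by
    intro g
    have h1 : MulAut.conjNormal (H := U) g ν = ν := by
      show (MulAut.conjNormal (H := U) g).toMonoidHom (∏ y : G ⧸ M, c y) = _
      rw [map_prod]
      refine Fintype.prod_equiv (MulAction.toPerm g) _ _ fun y => ?_
      obtain ⟨t, rfl⟩ := QuotientGroup.mk_surjective y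
      refine Subtype.ext ?_
      show ((MulAut.conjNormal g (c (QuotientGroup.mk t)) : U) : G) = c (QuotientGroup.mk (g * t))
      rw [MulAut.conjNormal_apply, hc, hc]
      group
    have h2 := congrArg Subtype.val h1
    rwa [MulAut.conjNormal_apply] at h2
  -- `ν` equals `x` modulo `V`
  let π : U →* U ⧸ V.subgroupOf U := QuotientGroup.mk' _
  have hmod : π ν = π (c (QuotientGroup.mk 1)) := by
    rw [map_prod]
    refine prod_cosets S hC (M := M) rfl hchief (hZp.to_le hUZ) (fun g hg => hdeg g hg U V hchief hUZ)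
      (fun y => π (c y)) fun g z => ?_
    obtain ⟨t, rfl⟩ := QuotientGroup.mk_surjective z
    refine ⟨π, fun a ha => (QuotientGroup.eq_one_iff a).mpr ha, c (QuotientGroup.mk t), g, Or.inl rfl, fun a => ?_⟩
    show π (c (QuotientGroup.mk (g ^ a * t))) = π _
    congr 1
    refine Subtype.ext ?_
    show ((c (QuotientGroup.mk (g ^ a * t)) : U) : G) = g ^ a * ((c (QuotientGroup.mk t) : U) : G) * (g ^ a)⁻¹
    rw [hc, hc]
    group
  have hxV : x * (ν : G)⁻¹ ∈ V := by
    have h1 : c (QuotientGroup.mk 1) * ν⁻¹ ∈ V.subgroupOf U := by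
      rw [← QuotientGroup.eq_one_iff]
      show π _ = 1
      rw [map_mul, map_inv, hmod, mul_inv_cancel]
    have h2 : ((c (QuotientGroup.mk 1) * ν⁻¹ : U) : G) ∈ V := h1
    rw [Subgroup.coe_mul, InvMemClass.coe_inv, hc] at h2
    simpa using h2
  have hlt : Nat.card V < n := hn ▸ lt_of_not_ge fun hle => hVU.ne (eq_of_le_of_card_ge hVU.le hle)
  have h3 := ih _ hlt V rfl hVn (hVU.le.trans hUZ) _ hxV (fun m hm => by
    rw [show m * (x * (ν : G)⁻¹) * m⁻¹ = (m * x * m⁻¹) * (m * (ν : G) * m⁻¹)⁻¹ by group, hfix m hm, hν m])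
  intro g
  have h4 := h3 g
  rw [show g * (x * (ν : G)⁻¹) * g⁻¹ = (g * x * g⁻¹) * (g * (ν : G) * g⁻¹)⁻¹ by group, hν g] at h4
  exact mul_right_cancel h4

/-- elements of degree `p - 1` outside `O_p` -/
theorem central_of_outside (S : Sylow p G) {x : G}
    (hx : x ∈ Cfsg.pCore p G) (hxS : x ∈ centralizer ((S : Subgroup G) : Set G))
    {g₀ : G} (hg₀ : g₀ ∈ (S : Subgroup G)) (hg₀Q : g₀ ∉ Cfsg.pCore p G)
    (hdeg : ∀ U V : Subgroup G, Cfsg.IsChiefFactor U V → U ≤ zc (Cfsg.pCore p G) →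
      Cfsg.iterCommutator U (zpowers g₀) (p - 1) ≤ V)
    (hM : ∀ M : Subgroup G, (S : Subgroup G) ≤ M → M ≠ ⊤ → M ≤ centralizer ({x} : Set G)) :
    centralizer ({x} : Set G) = ⊤ := by
  classical
  set Q := Cfsg.pCore p G
  have hQp : IsPGroup p Q := Cfsg.Lib.Components.isPGroup_pCore p
  haveI hZn : (zc Q).Normal := inferInstanceAs (Q ⊓ centralizer (Q : Set G)).Normal
  set C := {g : G | ∀ U V : Subgroup G, Cfsg.IsChiefFactor U V → U ≤ zc Q →
    Cfsg.iterCommutator U (zpowers g) (p - 1) ≤ V}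
  have hC : ∀ h g : G, g ∈ C → h * g * h⁻¹ ∈ C := by
    intro h g hg U V hUV hUQ
    have hm := map_mono (f := (MulAut.conj h).toMonoidHom) (hg U V hUV hUQ)
    rwa [Cfsg.Lib.Degree.map_iterCommutator, MonoidHom.map_zpowers,
      Cfsg.Lib.Transfer.map_conj_eq_self_iff.mpr (by rw [normalizer_eq_top_iff.mpr hUV.2.1]; exact mem_top h),
      Cfsg.Lib.Transfer.map_conj_eq_self_iff.mpr (by rw [normalizer_eq_top_iff.mpr hUV.2.2.1]; exact mem_top h)] at hm
  have hSM := le_normalizer_closure S hC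
  have hMne : normalizer ((closure {g | g ∈ (S : Subgroup G) ∧ g ∈ C} : Subgroup G) : Set G) ≠ ⊤ := fun htop => hg₀Q (by
    haveI : (closure {g | g ∈ (S : Subgroup G) ∧ g ∈ C}).Normal := normalizer_eq_top_iff.mp htop
    have hle : closure {g | g ∈ (S : Subgroup G) ∧ g ∈ C} ≤ (S : Subgroup G) := (closure_le _).mpr fun g hg => hg.1
    have h2 : g₀ ∈ closure {g | g ∈ (S : Subgroup G) ∧ g ∈ C} := subset_closure ⟨hg₀, hdeg⟩
    exact Cfsg.Lib.Components.le_pCore (S.2.to_le hle) h2)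
  have hxZ : x ∈ zc Q := ⟨hx, centralizer_le (Cfsg.Lib.Thompson.le_sylow_of_normal hQp S) hxS⟩
  have h := central_of_degree S (Z := zc Q) (hQp.to_le inf_le_left)
    (fun a ha b hb => mem_centralizer_iff.mp hb.2 a ha.1) hC (fun g hg => hg) _ (zc Q) rfl hZn le_rfl x hxZ
    (fun m hm => by
      have h1 := mem_centralizer_singleton_iff.mp (hM _ hSM hMne hm)
      rw [h1, mul_inv_cancel_right])
  rw [eq_top_iff]
  intro g _
  exact mem_centralizer_singleton_iff.mpr (mul_inv_eq_iff_eq_mul.mp (h g))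

/-! ### translation to subgroups -/

theorem top_of_sub {H Stab : Subgroup G} (h : Stab.subgroupOf H = ⊤) : H ≤ Stab :=
  subgroupOf_eq_top.mp h

theorem sub_hM {H Stab : Subgroup G} {T : Subgroup G} (hTH : T ≤ H)
    (hM : ∀ M : Subgroup G, T ≤ M → M < H → M ≤ Stab) :
    ∀ M : Subgroup H, T.subgroupOf H ≤ M → M ≠ ⊤ → M ≤ Stab.subgroupOf H := by
  intro M hTM hMne m hm
  refine hM (M.map H.subtype) ?_ (lt_of_le_of_ne (map_subtype_le M) fun h => hMne ?_) (mem_map_of_mem H.subtype hm)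
  · rw [← map_subgroupOf_eq_of_le hTH]; exact map_mono hTM
  · rw [← comap_map_eq_self_of_injective H.subtype_injective M, h]
    exact subgroupOf_self H

theorem final_quadratic {A B Stab H T : Subgroup G} (hTH : T ≤ H) (hT : IsPGroup p T)
    (hnd : ¬ p ∣ T.relIndex H) (hB : B ≤ T ⊓ centralizer (T : Set G))
    (hAB : A ≤ closure ((fun z : G => z ^ p) '' (B : Set G))) (hAQ : A ≤ Cfsg.pCoreOf p H)
    (hAS : centralizer (A : Set G) ≤ Stab) {g : G} (hgT : g ∈ T) (hgQ : g ∉ Cfsg.pCoreOf p H)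
    (hq : ⁅⁅Cfsg.pCoreOf p H ⊓ centralizer (Cfsg.pCoreOf p H : Set G), zpowers g⁆, zpowers g⁆ = ⊥)
    (hM : ∀ M : Subgroup G, T ≤ M → M < H → M ≤ Stab) : H ≤ Stab := by
  refine top_of_sub (eq_top_of_quadratic ((hT.comap_subtype (K := H)).toSylow hnd)
    (A := A.subgroupOf H) (B := B.subgroupOf H) ?_ ?_ ?_ ?_ (g := ⟨g, hTH hgT⟩) hgT
    (fun h => hgQ (mem_map_of_mem H.subtype h)) ?_ (sub_hM hTH hM))
  · intro b hb
    refine ⟨(hB hb).1, mem_centralizer_iff.mpr fun t ht => Subtype.ext ?_⟩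
    exact mem_centralizer_iff.mp (hB hb).2 (t : G) ht
  · rw [← map_le_map_iff_of_injective H.subtype_injective, MonoidHom.map_closure, subgroupOf_map_subtype,
      Set.image_image]
    refine le_trans inf_le_left (hAB.trans ((closure_le _).mpr ?_))
    rintro _ ⟨b, hb, rfl⟩
    exact subset_closure ⟨⟨b, hTH (hB hb).1⟩, hb, rfl⟩
  · intro a ha
    obtain ⟨q, hq', e⟩ := hAQ ha
    rwa [← show q = a from Subtype.ext e]
  · intro c hc
    refine hAS (mem_centralizer_iff.mpr fun a ha => ?_)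
    obtain ⟨q, hq', e⟩ := hAQ ha
    have haH : a ∈ H := e ▸ q.2
    exact congrArg Subtype.val (mem_centralizer_iff.mp hc ⟨a, haH⟩ ha)
  · rw [← map_eq_bot_iff_of_injective _ H.subtype_injective, map_commutator, map_commutator,
      map_zc H.subtype_injective, MonoidHom.map_zpowers]
    exact hq

theorem final_degree {x : G} {H T : Subgroup G} (hTH : T ≤ H) (hT : IsPGroup p T)
    (hnd : ¬ p ∣ T.relIndex H) (hxT : x ∈ centralizer (T : Set G)) (hxQ : x ∈ Cfsg.pCoreOf p H)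
    {g : G} (hgT : g ∈ T) (hgQ : g ∉ Cfsg.pCoreOf p H)
    (hdeg : ∀ U V : Subgroup H, Cfsg.IsChiefFactor U V →
      U.map H.subtype ≤ Cfsg.pCoreOf p H ⊓ centralizer (Cfsg.pCoreOf p H : Set G) →
      Cfsg.iterCommutator (U.map H.subtype) (zpowers g) (p - 1) ≤ V.map H.subtype)
    (hM : ∀ M : Subgroup G, T ≤ M → M < H → M ≤ centralizer ({x} : Set G)) :
    H ≤ centralizer ({x} : Set G) := by
  obtain ⟨q, hq, rfl⟩ := hxQ
  have hsub : centralizer ({q} : Set H) = (centralizer ({H.subtype q} : Set G)).subgroupOf H := by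
    ext y
    rw [mem_subgroupOf, mem_centralizer_singleton_iff, mem_centralizer_singleton_iff, Subtype.ext_iff]
    rfl
  refine top_of_sub ?_
  rw [← hsub]
  refine central_of_outside ((hT.comap_subtype (K := H)).toSylow hnd) hq
    (mem_centralizer_iff.mpr fun t ht => Subtype.ext (mem_centralizer_iff.mp hxT (t : G) ht))
    (g₀ := ⟨g, hTH hgT⟩) hgT (fun h => hgQ (mem_map_of_mem H.subtype h)) (fun U V hUV hU => ?_) ?_
  · rw [← map_le_map_iff_of_injective H.subtype_injective, Cfsg.Lib.Degree.map_iterCommutator,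
      MonoidHom.map_zpowers]
    refine hdeg U V hUV ?_
    refine (map_mono hU).trans (le_of_eq ?_)
    rw [map_zc H.subtype_injective]
    rfl
  · intro M hTM hMne
    rw [hsub]
    exact sub_hM hTH hM M hTM hMne

/-- elements central in `N(W T)` are weakly closed -/
theorem element_weaklyClosed (W : Subgroup G → Subgroup G) (hW : Cfsg.IsConjugacyFunctor p W)
    (hWZ : ∀ P : Subgroup G, IsPGroup p P → P ⊓ centralizer (P : Set G) ≤ W P)
    (hdeg : ∀ H T : Subgroup G, T ≤ H → IsPGroup p T → ¬ p ∣ T.relIndex H →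
      ¬ H ≤ normalizer ((W T : Subgroup G) : Set G) → ∃ g : G, g ∈ T ∧ g ∉ Cfsg.pCoreOf p H ∧
        ∀ U V : Subgroup H, Cfsg.IsChiefFactor U V →
          U.map H.subtype ≤ Cfsg.pCoreOf p H ⊓ centralizer (Cfsg.pCoreOf p H : Set G) →
          Cfsg.iterCommutator (U.map H.subtype) (zpowers g) (p - 1) ≤ V.map H.subtype)
    (H T : Subgroup G) (hTH : T ≤ H) (hT : IsPGroup p T) (hnd : ¬ p ∣ T.relIndex H) {x : G} (hxT : x ∈ T)
    (hxN : x ∈ centralizer ((H ⊓ normalizer ((W T : Subgroup G) : Set G) : Subgroup G) : Set G))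
    {h : G} (hh : h ∈ H) (hhx : h * x * h⁻¹ ∈ T) : h * x * h⁻¹ = x := by
  have hTN : T ≤ H ⊓ normalizer ((W T : Subgroup G) : Set G) := le_inf hTH fun t ht => by
    rw [← Cfsg.Lib.Transfer.map_conj_eq_self_iff, ← (hW T hT).2.2 t,
      Cfsg.Lib.Transfer.map_conj_eq_self_iff.mpr (le_normalizer ht)]
  have hmem : ∀ y : G, y ∈ centralizer ({x} : Set G) ↔ y ∈ centralizer ((zpowers x : Subgroup G) : Set G) := by
    intro y
    rw [zpowers_eq_closure, centralizer_closure]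
  have key := weakClosure_main W hW hWZ (A := zpowers x) (B := zpowers x) (Stab := centralizer ({x} : Set G))
    le_rfl (fun y hy => (hmem y).mpr hy)
    (fun y hy => Cfsg.Lib.Thompson.centralizer_le_normalizer _ ((hmem y).mp hy))
    (fun H' T' hT'H hT' hnd' hB hn hM hAQ => by
      obtain ⟨g, hg1, hg2, hg3⟩ := hdeg H' T' hT'H hT' hnd' hn
      exact final_degree hT'H hT' hnd' (hB (mem_zpowers x)).2 (hAQ (mem_zpowers x)) hg1 hg2 hg3 hM)
    _ H T rfl hTH hT hnd (zpowers_le.mpr ⟨hxT, centralizer_le hTN hxN⟩)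
    (fun y hy => mem_centralizer_singleton_iff.mpr (mem_centralizer_iff.mp hxN y hy))
    h hh (by rw [MonoidHom.map_zpowers]; exact zpowers_le.mpr hhx)
  rw [mem_centralizer_singleton_iff.mp key, mul_inv_cancel_right]

/-- subgroups of `p`-th powers in the centre are weakly closed -/
theorem powers_weaklyClosed (W : Subgroup G → Subgroup G) (hW : Cfsg.IsConjugacyFunctor p W)
    (hWZ : ∀ P : Subgroup G, IsPGroup p P → P ⊓ centralizer (P : Set G) ≤ W P)
    (hq : ∀ H T : Subgroup G, T ≤ H → IsPGroup p T → ¬ p ∣ T.relIndex H →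
      ¬ H ≤ normalizer ((W T : Subgroup G) : Set G) → ∃ g : G, g ∈ T ∧ g ∉ Cfsg.pCoreOf p H ∧
        ⁅⁅Cfsg.pCoreOf p H ⊓ centralizer (Cfsg.pCoreOf p H : Set G), zpowers g⁆, zpowers g⁆ = ⊥)
    (S : Sylow p G) (Z : Subgroup G)
    (hZ : Z = closure ((fun z : G => z ^ p) '' (((S : Subgroup G) ⊓ centralizer ((S : Subgroup G) : Set G) : Subgroup G) : Set G))) :
    (∀ x ∈ Z ⊓ centralizer ((normalizer ((W (S : Subgroup G) : Subgroup G) : Set G) : Subgroup G) : Set G),
      ∀ g : G, g * x * g⁻¹ ∈ (S : Subgroup G) → g * x * g⁻¹ = x) ∧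
    ∀ A : Subgroup G, A ≤ Z → normalizer ((W (S : Subgroup G) : Subgroup G) : Set G) ≤ normalizer (A : Set G) →
      Cfsg.IsWeaklyClosed A (S : Subgroup G) := by
  set B := (S : Subgroup G) ⊓ centralizer ((S : Subgroup G) : Set G)
  have hZB : Z ≤ B := hZ ▸ (closure_le _).mpr (by rintro _ ⟨b, hb, rfl⟩; exact pow_mem hb p)
  have hnd : ¬ p ∣ (S : Subgroup G).relIndex ⊤ := by rw [relIndex_top_right]; exact S.not_dvd_index
  have key : ∀ A Stab : Subgroup G, A ≤ Z → centralizer (A : Set G) ≤ Stab → Stab ≤ normalizer (A : Set G) →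
      normalizer ((W (S : Subgroup G) : Subgroup G) : Set G) ≤ Stab →
      ∀ g : G, A.map (MulAut.conj g).toMonoidHom ≤ (S : Subgroup G) → g ∈ Stab := by
    intro A Stab hAZ hAS hSA hN g hg
    refine weakClosure_main W hW hWZ (hAZ.trans hZB) hAS hSA (fun H T hTH hT hTnd hB hn hM hAQ => ?_) _ ⊤
      (S : Subgroup G) rfl le_top S.2 hnd le_rfl (inf_le_right.trans hN) g (mem_top g) hg
    obtain ⟨g', hg1, hg2, hg3⟩ := hq H T hTH hT hTnd hn
    exact final_quadratic hTH hT hTnd hB (hZ ▸ hAZ) hAQ hAS hg1 hg2 hg3 hM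
  refine ⟨fun x hx g hg => ?_, fun A hAZ hAN => ⟨hAZ.trans (hZB.trans inf_le_left), fun g hg =>
    Cfsg.Lib.Transfer.map_conj_eq_self_iff.mpr (key A _ hAZ (Cfsg.Lib.Thompson.centralizer_le_normalizer A)
      le_rfl hAN g hg)⟩⟩
  have h := key (zpowers x) (centralizer ((zpowers x : Subgroup G) : Set G)) (zpowers_le.mpr hx.1) le_rfl
    (Cfsg.Lib.Thompson.centralizer_le_normalizer _)
    (le_centralizer_iff.mp (zpowers_le.mpr hx.2)) g (by rw [MonoidHom.map_zpowers]; exact zpowers_le.mpr hg)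
  rw [(mem_centralizer_iff.mp h x (mem_zpowers x)).symm, mul_inv_cancel_right]

end Cfsg.Lib.Control
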